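import Groth.Agent.PP16Lib.JacobianSplit
import Groth.Agent.S2453
import Groth.Agent.S2471
import Mathlib.RingTheory.Smooth.Locus
import Mathlib.RingTheory.FiniteType

/-!
For finite type algebras over a field, smoothness at a point with geometrically reduced residue field
is regularity of the local ring.
-/

set_option autoImplicit false

universe u

open IsLocalRing

namespace Groth.Agent.CotLib

theorem isSmoothAt_iff_regular {k S : Type u} [Field k] [CommRing S] [Algebra k S] [Algebra.FiniteType k S]
    (q : Ideal S) [q.IsPrime] [Algebra.IsGeometricallyReduced k q.ResidueField] :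
    Algebra.IsSmoothAt k q ↔ IsRegularLocalRing (Localization.AtPrime q) := by
  haveI : IsNoetherianRing S := Algebra.FiniteType.isNoetherianRing k S
  haveI : IsNoetherianRing (Localization.AtPrime q) :=
    IsLocalization.isNoetherianRing q.primeCompl _ inferInstance
  haveI : Algebra.IsGeometricallyReduced k (ResidueField (Localization.AtPrime q)) := ‹_›
  have h := (S2453.result (k := k) (A := Localization.AtPrime q)).out 0 3
  refine ⟨fun hs => h.mp ?_, fun hr => ?_⟩
  · haveI : Algebra.FormallySmooth k (Localization.AtPrime q) := hs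
    intro E _ _ N hN ψ _
    exact ⟨Algebra.FormallySmooth.lift N ⟨2, hN⟩ ψ, Algebra.FormallySmooth.comp_lift N ⟨2, hN⟩ ψ⟩
  · obtain ⟨m, f₀, hf₀⟩ := Algebra.FiniteType.iff_quotient_mvPolynomial''.1 ‹Algebra.FiniteType k S›
    letI : Algebra (MvPolynomial (Fin m) k) S := f₀.toRingHom.toAlgebra
    haveI : IsScalarTower k (MvPolynomial (Fin m) k) S :=
      IsScalarTower.of_algebraMap_eq fun x => (f₀.commutes x).symm
    have hinj := PP16Lib.injective_of_adicSmooth_atPrime (A := k) (B := MvPolynomial (Fin m) k)
      (C := S) hf₀ q (h.mpr hr)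
    haveI : Module.Finite (MvPolynomial (Fin m) k)
        (RingHom.ker (algebraMap (MvPolynomial (Fin m) k) S)).Cotangent :=
      Module.Finite.of_surjective _ (Ideal.toCotangent_surjective _)
    obtain ⟨_, _, _, hs⟩ := PP16Lib.exists_away_of_injective (A := k) hf₀ q hinj
    exact hs

theorem isGeometricallyReduced_of_isAlgClosed {k K : Type u} [Field k] [IsAlgClosed k] [CommRing K]
    [IsReduced K] [Algebra k K] : Algebra.IsGeometricallyReduced k K := by
  rw [Algebra.isGeometricallyReduced_field_iff]
  let e : k ≃ₐ[k] AlgebraicClosure k :=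
    AlgEquiv.ofBijective (Algebra.ofId k _) (IsAlgClosed.algebraMap_bijective_of_isIntegral)
  exact isReduced_of_injective
    ((Algebra.TensorProduct.lid k K).toAlgHom.comp
      (Algebra.TensorProduct.congr e.symm (AlgEquiv.refl (R := k) (A₁ := K))).toAlgHom)
    ((Algebra.TensorProduct.lid k K).injective.comp
      (Algebra.TensorProduct.congr e.symm (AlgEquiv.refl (R := k) (A₁ := K))).injective)

end Groth.Agent.CotLib
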