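import Mathlib.Algebra.Exact.Basic
import Mathlib.LinearAlgebra.Quotient.Basic

/-!
The connecting map of a map of short exact rows.
-/

set_option autoImplicit false

namespace Groth.Agent.CotLib

variable {R : Type*} [CommRing R]
variable {X' X X'' Y' Y Y'' : Type*}
variable [AddCommGroup X'] [Module R X'] [AddCommGroup X] [Module R X] [AddCommGroup X''] [Module R X'']
variable [AddCommGroup Y'] [Module R Y'] [AddCommGroup Y] [Module R Y] [AddCommGroup Y''] [Module R Y'']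

/-- The connecting map `ker a'' → coker a'`, characterized by its values. -/
lemma exists_connect (i₀ : X' →ₗ[R] X) (p₀ : X →ₗ[R] X'') (i₁ : Y' →ₗ[R] Y) (p₁ : Y →ₗ[R] Y'')
    (a' : X' →ₗ[R] Y') (a : X →ₗ[R] Y) (a'' : X'' →ₗ[R] Y'')
    (hp₀ : Function.Surjective p₀) (he₀ : Function.Exact i₀ p₀)
    (hi₁ : Function.Injective i₁) (he₁ : Function.Exact i₁ p₁)
    (hl : ∀ x, a (i₀ x) = i₁ (a' x)) (hr : ∀ x, a'' (p₀ x) = p₁ (a x)) :
    ∃ δ : LinearMap.ker a'' →ₗ[R] Y' ⧸ LinearMap.range a',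
      (∀ (x : LinearMap.ker a'') y z, p₀ y = (x : X'') → i₁ z = a y → δ x = Submodule.Quotient.mk z) ∧
      (∀ x : LinearMap.ker a'', δ x = 0 ↔ ∃ y, a y = 0 ∧ p₀ y = (x : X'')) ∧
      (∀ z, Submodule.Quotient.mk z ∈ LinearMap.range δ ↔ ∃ y, i₁ z = a y) := by
  have ex : ∀ x : LinearMap.ker a'', ∃ y z, p₀ y = (x : X'') ∧ i₁ z = a y := fun x => by
    obtain ⟨y, hy⟩ := hp₀ x
    obtain ⟨z, hz⟩ := (he₁ (a y)).1 (by rw [← hr, hy]; exact x.2)
    exact ⟨y, z, hy, hz⟩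
  choose Y₀ Z₀ hY hZ using ex
  have uniq : ∀ (x : LinearMap.ker a'') y z, p₀ y = (x : X'') → i₁ z = a y →
      (Submodule.Quotient.mk (Z₀ x) : Y' ⧸ LinearMap.range a') = Submodule.Quotient.mk z := by
    intro x y z hy hz
    obtain ⟨w, hw⟩ := (he₀ (Y₀ x - y)).1 (by rw [map_sub, hY, hy, sub_self])
    rw [Submodule.Quotient.eq]
    refine ⟨w, hi₁ ?_⟩
    rw [← hl, hw, map_sub, map_sub, hZ, hz]
  let δ : LinearMap.ker a'' →ₗ[R] Y' ⧸ LinearMap.range a' :=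
    { toFun := fun x => Submodule.Quotient.mk (Z₀ x)
      map_add' := fun x x' => by
        rw [← Submodule.Quotient.mk_add]
        exact uniq _ (Y₀ x + Y₀ x') _ (by rw [map_add, hY, hY]; rfl) (by rw [map_add, map_add, hZ, hZ])
      map_smul' := fun r x => by
        rw [RingHom.id_apply, ← Submodule.Quotient.mk_smul]
        exact uniq _ (r • Y₀ x) _ (by rw [map_smul, hY]; rfl) (by rw [map_smul, map_smul, hZ]) }
  refine ⟨δ, fun x y z hy hz => uniq x y z hy hz, fun x => ⟨fun h => ?_, fun ⟨y, hy, hyx⟩ => ?_⟩,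
    fun z => ⟨?_, fun ⟨y, hy⟩ => ?_⟩⟩
  · obtain ⟨w, hw⟩ := (Submodule.Quotient.mk_eq_zero _).1 h
    refine ⟨Y₀ x - i₀ w, by rw [map_sub, hl, hw, hZ, sub_self], ?_⟩
    rw [map_sub, hY, he₀.apply_apply_eq_zero, sub_zero]
  · exact (uniq x y 0 hyx (by rw [map_zero, hy])).trans (Submodule.Quotient.mk_zero _)
  · rintro ⟨x, hx⟩
    obtain ⟨w, hw⟩ := (Submodule.Quotient.eq _).1 hx.symm
    exact ⟨Y₀ x + i₀ w, by rw [map_add, hl, hw, map_sub, hZ, add_sub_cancel]⟩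
  · exact ⟨⟨p₀ y, by rw [LinearMap.mem_ker, hr, ← hy, he₁.apply_apply_eq_zero]⟩, uniq _ y z rfl hy⟩

end Groth.Agent.CotLib
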