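import Mathlib.Algebra.Exact.Basic
import Mathlib.Algebra.Group.Hom.Defs

/-!
The connecting map of a map of short exact rows of abelian groups.
-/

set_option autoImplicit false

namespace Groth.Agent.CotLib

variable {X' X X'' Y' Y Y'' K W : Type*}
variable [AddCommGroup X'] [AddCommGroup X] [AddCommGroup X''] [AddCommGroup Y'] [AddCommGroup Y]
  [AddCommGroup Y''] [AddCommGroup K] [AddCommGroup W]

/-- The connecting map from `K ⊆ ker a''` to a quotient `W` of `coker a'`. -/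
lemma exists_connect_add (i₀ : X' →+ X) (p₀ : X →+ X'') (i₁ : Y' →+ Y) (p₁ : Y →+ Y'')
    (a' : X' →+ Y') (a : X →+ Y) (a'' : X'' →+ Y'') (k : K →+ X'') (π : Y' →+ W)
    (hp₀ : Function.Surjective p₀) (he₀ : Function.Exact i₀ p₀)
    (hi₁ : Function.Injective i₁) (he₁ : Function.Exact i₁ p₁)
    (hl : ∀ x, a (i₀ x) = i₁ (a' x)) (hr : ∀ x, a'' (p₀ x) = p₁ (a x))
    (hk : ∀ x, a'' (k x) = 0) (hπ : ∀ z, π z = 0 ↔ ∃ w, a' w = z) :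
    ∃ δ : K →+ W, (∀ x, δ x = 0 ↔ ∃ y, a y = 0 ∧ p₀ y = k x) ∧
      (∀ z, (∃ x, δ x = π z) ↔ ∃ y, i₁ z = a y ∧ ∃ x, p₀ y = k x) := by
  have ex : ∀ x, ∃ y z, p₀ y = k x ∧ i₁ z = a y := fun x => by
    obtain ⟨y, hy⟩ := hp₀ (k x)
    obtain ⟨z, hz⟩ := (he₁ (a y)).1 (by rw [← hr, hy, hk])
    exact ⟨y, z, hy, hz⟩
  choose Y₀ Z₀ hY hZ using ex
  have uniq : ∀ x y z, p₀ y = k x → i₁ z = a y → π (Z₀ x) = π z := by
    intro x y z hy hz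
    obtain ⟨w, hw⟩ := (he₀ (Y₀ x - y)).1 (by rw [map_sub, hY, hy, sub_self])
    rw [← sub_eq_zero, ← map_sub, hπ]
    refine ⟨w, hi₁ ?_⟩
    rw [← hl, hw, map_sub, map_sub, hZ, hz]
  refine ⟨AddMonoidHom.mk' (fun x => π (Z₀ x)) fun x x' => ?_, fun x => ⟨fun h => ?_, fun ⟨y, hy, hyx⟩ => ?_⟩,
    fun z => ⟨?_, fun ⟨y, hy, x, hx⟩ => ⟨x, uniq x y z hx hy⟩⟩⟩
  · rw [← map_add]
    exact uniq _ (Y₀ x + Y₀ x') _ (by rw [map_add, hY, hY, map_add]) (by rw [map_add, map_add, hZ, hZ])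
  · obtain ⟨w, hw⟩ := (hπ _).1 h
    refine ⟨Y₀ x - i₀ w, by rw [map_sub, hl, hw, hZ, sub_self], ?_⟩
    rw [map_sub, hY, he₀.apply_apply_eq_zero, sub_zero]
  · exact (uniq x y 0 hyx (by rw [map_zero, hy])).trans (map_zero π)
  · rintro ⟨x, hx⟩
    obtain ⟨w, hw⟩ := (hπ (z - Z₀ x)).1 (by rw [map_sub, ← hx]; exact sub_self _)
    refine ⟨Y₀ x + i₀ w, by rw [map_add, hl, hw, map_sub, hZ, add_sub_cancel], x, ?_⟩
    rw [map_add, hY, he₀.apply_apply_eq_zero, add_zero]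

end Groth.Agent.CotLib
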