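import Groth.Prelude.Def_Exal
import Mathlib.RingTheory.Ideal.Quotient.Operations
import Mathlib.Algebra.Algebra.Hom

/-!
# Square-zero extensions from a presentation

For `π : R → B` and a `B`-module `M`, an `R`-linear map `φ : ker π → M` gives an extension of `B` by `M`;
two such give equivalent extensions iff they differ by a derivation `R → M`.
-/

set_option autoImplicit false
universe u

namespace Groth.Agent.CotLib.ExalPres

variable {A R B : Type u} [CommRing A] [CommRing R] [Algebra A R] [CommRing B] [Algebra A B]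
variable (π : R →ₐ[A] B) (M : Type u) [AddCommGroup M] [Module B M]

/-- `R`-linear maps `ker π → M`. -/
structure Phi : Type u where
  toFun : RingHom.ker π → M
  map_add' : ∀ x y, toFun (x + y) = toFun x + toFun y
  map_smul' : ∀ (r : R) (x : RingHom.ker π), toFun (r • x) = π r • toFun x

/-- `A`-derivations `R → M`. -/
structure IsDer (D : R → M) : Prop where
  add : ∀ a b, D (a + b) = D a + D b
  mul : ∀ a b, D (a * b) = π a • D b + π b • D a
  const : ∀ a : A, D (algebraMap A R a) = 0

/-- `M` as an `R`-module. -/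
@[nolint unusedArguments]
def PullMod (_π : R →ₐ[A] B) (M : Type u) : Type u := M

instance : AddCommGroup (PullMod π M) := inferInstanceAs (AddCommGroup M)

noncomputable instance : Module R (PullMod π M) := Module.compHom M π.toRingHom

/-- The identification. -/
def toPull : M ≃+ PullMod π M := AddEquiv.refl M

variable {π M}

theorem toPull_symm_smul (r : R) (m : PullMod π M) :
    (toPull π M).symm (r • m) = π r • (toPull π M).symm m := rfl

theorem toPull_smul (r : R) (m : M) : r • toPull π M m = toPull π M (π r • m) := rfl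

instance : CoeFun (Phi π M) (fun _ => RingHom.ker π → M) := ⟨Phi.toFun⟩

theorem Phi.map_zero (φ : Phi π M) : φ 0 = 0 := by
  have := φ.map_smul' 0 0
  rwa [zero_smul, _root_.map_zero, zero_smul] at this

theorem Phi.ext' {φ ψ : Phi π M} (h : ∀ x, φ x = ψ x) : φ = ψ := by
  obtain ⟨f, _, _⟩ := φ
  obtain ⟨g, _, _⟩ := ψ
  obtain rfl : f = g := funext h
  rfl

theorem IsDer.map_zero {D : R → M} (hD : IsDer π M D) : D 0 = 0 := by
  have := hD.add 0 0
  rwa [add_zero, left_eq_add] at this

theorem Phi.congr (φ : Phi π M) {x y : RingHom.ker π} (h : (x : R) = y) : φ x = φ y :=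
  congrArg φ.toFun (Subtype.ext h)

theorem Phi.eq_at (φ : Phi π M) (y : RingHom.ker π) {r : R} (e : r = y) {h : r ∈ RingHom.ker π} :
    φ ⟨r, h⟩ = φ y :=
  φ.congr e

/-- Translate by a derivation. -/
def Phi.addDer (φ : Phi π M) {D : R → M} (hD : IsDer π M D) : Phi π M where
  toFun x := φ x + D x
  map_add' x y := by
    rw [φ.map_add', Submodule.coe_add, hD.add]
    abel
  map_smul' r x := by
    rw [φ.map_smul', Submodule.coe_smul, smul_eq_mul, hD.mul, smul_add]
    have : π (x : R) = 0 := x.2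
    rw [this, zero_smul, add_zero]

attribute [local instance] Exal.opModule Exal.isCentralScalar_opModule

open Exal

/-- `R ⊕ M`. -/
noncomputable abbrev Sum' (π : R →ₐ[A] B) (M : Type u) [AddCommGroup M] [Module B M] : Type u :=
  Ext.TrivCarrier A R (PullMod π M)

section carrier

/-- The element `(r, m)`. -/
noncomputable def pair (r : R) (m : M) : Sum' π M :=
  (⟨r, toPull π M m⟩ : TrivSqZeroExt R (PullMod π M))

/-- First component. -/
noncomputable def c1 (z : Sum' π M) : R := TrivSqZeroExt.fst z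

/-- Second component. -/
noncomputable def c2 (z : Sum' π M) : M := (toPull π M).symm (TrivSqZeroExt.snd z)

theorem c1_pair (r : R) (m : M) : c1 (pair (π := π) r m) = r := rfl
theorem c2_pair (r : R) (m : M) : c2 (pair (π := π) r m) = m := rfl
theorem pair_c (z : Sum' π M) : pair (c1 z) (c2 z) = z := rfl
theorem c1_add (z w : Sum' π M) : c1 (z + w) = c1 z + c1 w := rfl
theorem c2_add (z w : Sum' π M) : c2 (z + w) = c2 z + c2 w := rfl
theorem c1_zero : c1 (0 : Sum' π M) = 0 := rfl
theorem c2_zero : c2 (0 : Sum' π M) = 0 := rfl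
theorem c1_one : c1 (1 : Sum' π M) = 1 := rfl
theorem c2_one : c2 (1 : Sum' π M) = 0 := rfl
theorem c1_mul (z w : Sum' π M) : c1 (z * w) = c1 z * c1 w := rfl
theorem c2_mul (z w : Sum' π M) : c2 (z * w) = π (c1 z) • c2 w + π (c1 w) • c2 z := rfl
theorem c1_algebraMap (a : A) : c1 (algebraMap A (Sum' π M) a) = algebraMap A R a := rfl
theorem c2_algebraMap (a : A) : c2 (algebraMap A (Sum' π M) a) = 0 := rfl

end carrier

/-- The relations `(x, -φ x)`. -/
noncomputable def rels (φ : Phi π M) : Ideal (Sum' π M) where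
  carrier := {z | ∃ h : c1 z ∈ RingHom.ker π, c2 z = - φ ⟨c1 z, h⟩}
  zero_mem' := ⟨by rw [c1_zero]; exact zero_mem _, by
    rw [c2_zero, eq_comm, neg_eq_zero]
    exact φ.map_zero⟩
  add_mem' := by
    rintro z w ⟨hz, hz'⟩ ⟨hw, hw'⟩
    refine ⟨by rw [c1_add]; exact add_mem hz hw, ?_⟩
    rw [c2_add, hz', hw', ← neg_add, ← φ.map_add']
    rfl
  smul_mem' := by
    rintro w z ⟨hz, hz'⟩
    refine ⟨by rw [smul_eq_mul, c1_mul]; exact Ideal.mul_mem_left _ _ hz, ?_⟩
    have h0 : π (c1 z) = 0 := hz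
    change c2 (w * z) = _
    rw [c2_mul, h0, zero_smul, add_zero, hz', smul_neg, ← φ.map_smul']
    exact congrArg Neg.neg (φ.congr rfl)

/-- The projection. -/
noncomputable def sumProj (π : R →ₐ[A] B) (M : Type u) [AddCommGroup M] [Module B M] :
    Sum' π M →ₐ[A] B :=
  π.comp (Ext.trivial A R (PullMod π M)).proj

theorem sumProj_apply (z : Sum' π M) : sumProj π M z = π (c1 z) := rfl

/-- The carrier of the extension defined by `φ`. -/
abbrev Carrier (φ : Phi π M) : Type u := Sum' π M ⧸ rels φ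

/-- The projection of `E φ`. -/
noncomputable def eProj (φ : Phi π M) : Carrier φ →ₐ[A] B :=
  Ideal.Quotient.liftₐ _ (sumProj π M) (fun _ hz => hz.1)

theorem eProj_mk (φ : Phi π M) (z : Sum' π M) :
    eProj φ (Ideal.Quotient.mk _ z) = π (c1 z) := rfl

/-- The inclusion of `M`. -/
noncomputable def eIncl (φ : Phi π M) : M →+ Carrier φ where
  toFun m := Ideal.Quotient.mk _ (pair 0 m)
  map_zero' := by
    rw [← map_zero (Ideal.Quotient.mk (rels φ))]
    rfl
  map_add' m m' := by
    rw [← map_add]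
    congr 1
    conv_rhs => rw [← pair_c (_ + _), c1_add, c2_add, c1_pair, c1_pair, c2_pair, c2_pair, add_zero]

theorem eIncl_apply (φ : Phi π M) (m : M) : eIncl φ m = Ideal.Quotient.mk _ (pair 0 m) := rfl

theorem isExtension (hπ : Function.Surjective π) (φ : Phi π M) :
    IsExtension (eProj φ) (eIncl φ) where
  proj_surjective b := by
    obtain ⟨r, rfl⟩ := hπ b
    exact ⟨Ideal.Quotient.mk _ (pair r 0), rfl⟩
  incl_injective m m' h := by
    rw [eIncl_apply, eIncl_apply, Ideal.Quotient.eq] at h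
    obtain ⟨hk, hk'⟩ := h
    have hc : c1 (pair (π := π) 0 m - pair 0 m') = 0 := sub_self (0 : R)
    have hm : c2 (pair (π := π) 0 m - pair 0 m') = m - m' := rfl
    rw [hm, show (⟨_, hk⟩ : RingHom.ker π) = 0 from Subtype.ext hc, φ.map_zero, neg_zero,
      sub_eq_zero] at hk'
    exact hk'
  exact x := by
    obtain ⟨z, rfl⟩ := Ideal.Quotient.mk_surjective x
    rw [eProj_mk]
    constructor
    · intro h
      refine ⟨c2 z + φ ⟨c1 z, h⟩, ?_⟩
      rw [eIncl_apply, Ideal.Quotient.eq]
      have hc : c1 (pair 0 (c2 z + φ ⟨c1 z, h⟩) - z) = - c1 z := zero_sub (c1 z)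
      refine ⟨by rw [hc]; exact neg_mem h, ?_⟩
      have hm : c2 (pair 0 (c2 z + φ ⟨c1 z, h⟩) - z) = c2 z + φ ⟨c1 z, h⟩ - c2 z := rfl
      rw [hm, φ.eq_at ((-1 : R) • ⟨c1 z, h⟩) (hc.trans (neg_one_mul _).symm), φ.map_smul']
      simp
    · rintro ⟨m, hm⟩
      rw [← eProj_mk φ, ← hm, eIncl_apply, eProj_mk, c1_pair, _root_.map_zero]
  mul_incl x m := by
    obtain ⟨z, rfl⟩ := Ideal.Quotient.mk_surjective x
    rw [eIncl_apply, eIncl_apply, eProj_mk, ← map_mul]
    congr 1
    conv_lhs => rw [← pair_c (z * _), c1_mul, c2_mul, c1_pair, c2_pair, mul_zero, _root_.map_zero,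
      zero_smul, add_zero]

/-- The extension attached to `φ`. -/
noncomputable def E (hπ : Function.Surjective π) (φ : Phi π M) : Ext A B M where
  E := Carrier φ
  proj := eProj φ
  incl := eIncl φ
  isExtension := isExtension hπ φ

/-- `Φ : R → X` lies over `π` and restricts to `φ` on the kernel. -/
def Lifts (φ : Phi π M) (X : Ext A B M) : Prop :=
  ∃ Φ : R →ₐ[A] X.E, (∀ r, X.proj (Φ r) = π r) ∧ ∀ x : RingHom.ker π, Φ x = X.incl (φ x)

theorem lifts_E (hπ : Function.Surjective π) (φ : Phi π M) : Lifts φ (E hπ φ) := by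
  refine ⟨{ toFun := fun r => (Ideal.Quotient.mk (rels φ) (pair r 0) : Carrier φ)
            map_one' := map_one (Ideal.Quotient.mk (rels φ))
            map_mul' := fun a b => ?_
            map_zero' := map_zero (Ideal.Quotient.mk (rels φ))
            map_add' := fun a b => ?_
            commutes' := fun a => rfl }, fun r => rfl, fun x => ?_⟩
  · refine (congrArg (Ideal.Quotient.mk (rels φ)) ?_).trans (map_mul _ _ _)
    conv_rhs => rw [← pair_c (_ * _), c1_mul, c2_mul, c1_pair, c1_pair, c2_pair, c2_pair,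
      smul_zero, smul_zero, add_zero]
  · refine (congrArg (Ideal.Quotient.mk (rels φ)) ?_).trans (map_add _ _ _)
    conv_rhs => rw [← pair_c (_ + _), c1_add, c2_add, c1_pair, c1_pair, c2_pair, c2_pair, add_zero]
  · refine Ideal.Quotient.eq.mpr ?_
    have hc : c1 (pair (π := π) (M := M) (↑x : R) 0 - pair 0 (φ x)) = (↑x : R) :=
      sub_zero (↑x : R)
    refine ⟨by rw [hc]; exact x.2, ?_⟩
    rw [φ.eq_at x hc]
    exact zero_sub (φ x)

theorem incl_mul_incl (X : Ext A B M) (m n : M) : X.incl m * X.incl n = 0 := by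
  rw [X.isExtension.mul_incl, (X.isExtension.exact _).2 ⟨m, rfl⟩, zero_smul, map_zero]

theorem cl_eq_of_lifts (hπ : Function.Surjective π) {φ : Phi π M} {X : Ext A B M}
    (h : Lifts φ X) : (E hπ φ).cl = X.cl := by
  obtain ⟨Φ, hΦ, hφ⟩ := h
  let F : Sum' π M →ₐ[A] X.E :=
    { toFun := fun z => Φ (c1 z) + X.incl (c2 z)
      map_one' := by rw [c1_one, c2_one, map_one, map_zero, add_zero]
      map_mul' := fun z w => by
        rw [c1_mul, c2_mul, map_mul, map_add, ← hΦ, ← hΦ, ← X.isExtension.mul_incl,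
          ← X.isExtension.mul_incl, add_mul, mul_add, mul_add, incl_mul_incl,
          mul_comm (X.incl (c2 z)) (Φ (c1 w))]
        abel
      map_zero' := by rw [c1_zero, c2_zero, map_zero, map_zero, add_zero]
      map_add' := fun z w => by
        rw [c1_add, c2_add, map_add, map_add]
        abel
      commutes' := fun a => by
        rw [c1_algebraMap, c2_algebraMap, map_zero, add_zero, AlgHom.commutes] }
  have hF : ∀ z ∈ rels φ, F z = 0 := by
    rintro z ⟨hz, hz'⟩
    change Φ (c1 z) + X.incl (c2 z) = 0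
    rw [hz', map_neg, ← hφ, add_neg_cancel]
  let G : Carrier φ →ₐ[A] X.E := Ideal.Quotient.liftₐ _ F hF
  have hbij : Function.Bijective G := by
    refine ⟨fun a b hab => ?_, fun x => ?_⟩
    · obtain ⟨z, rfl⟩ := Ideal.Quotient.mk_surjective a
      obtain ⟨w, rfl⟩ := Ideal.Quotient.mk_surjective b
      rw [Ideal.Quotient.eq]
      have h0 : F (z - w) = 0 := by
        rw [map_sub]
        exact sub_eq_zero.2 hab
      generalize z - w = v at h0
      have hk : π (c1 v) = 0 := by
        have := congrArg X.proj h0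
        change X.proj (Φ (c1 v) + X.incl (c2 v)) = _ at this
        rwa [map_add, hΦ, (X.isExtension.exact _).2 ⟨_, rfl⟩, add_zero, map_zero] at this
      refine ⟨hk, ?_⟩
      have h1 : Φ ((⟨c1 v, hk⟩ : RingHom.ker π) : R) + X.incl (c2 v) = 0 := h0
      rw [hφ, ← map_add, ← map_zero X.incl] at h1
      exact eq_neg_of_add_eq_zero_right (X.isExtension.incl_injective h1)
    · obtain ⟨r, hr⟩ := hπ (X.proj x)
      obtain ⟨m, hm⟩ := (X.isExtension.exact (x - Φ r)).1 (by rw [map_sub, hΦ, hr, sub_self])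
      refine ⟨Ideal.Quotient.mk _ (pair r m), ?_⟩
      change Φ r + X.incl m = x
      rw [hm]
      abel
  refine Quotient.sound ⟨⟨AlgEquiv.ofBijective G hbij, fun x => ?_, fun m => ?_⟩⟩
  · obtain ⟨z, rfl⟩ := Ideal.Quotient.mk_surjective (I := rels φ) x
    change X.proj (Φ (c1 z) + X.incl (c2 z)) = π (c1 z)
    rw [map_add, hΦ, (X.isExtension.exact _).2 ⟨_, rfl⟩, add_zero]
  · change Φ 0 + X.incl m = X.incl m
    rw [map_zero, zero_add]

/-- The map on the kernel of a lift. -/
theorem exists_phi_of_lift (X : Ext A B M) (Φ : R →ₐ[A] X.E) (hΦ : ∀ r, X.proj (Φ r) = π r) :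
    ∃ φ : Phi π M, Lifts φ X := by
  have hx : ∀ x : RingHom.ker π, X.proj (Φ x) = 0 := fun x => by rw [hΦ]; exact x.2
  refine ⟨⟨fun x => X.kerLift (Φ x) (hx x), fun x y => ?_, fun r x => ?_⟩, Φ, hΦ,
    fun x => (X.incl_kerLift _ (hx x)).symm⟩
  · apply X.isExtension.incl_injective
    rw [map_add, X.incl_kerLift, X.incl_kerLift, X.incl_kerLift, Submodule.coe_add, map_add]
  · apply X.isExtension.incl_injective
    rw [← hΦ r, ← X.isExtension.mul_incl, X.incl_kerLift, X.incl_kerLift, Submodule.coe_smul,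
      smul_eq_mul, map_mul]

theorem lifts_addDer {φ : Phi π M} {X : Ext A B M} (h : Lifts φ X) {D : R → M}
    (hD : IsDer π M D) : Lifts (φ.addDer hD) X := by
  obtain ⟨Φ, hΦ, hφ⟩ := h
  refine ⟨{ toFun := fun r => Φ r + X.incl (D r)
            map_one' := ?_
            map_mul' := fun a b => ?_
            map_zero' := by rw [map_zero, hD.map_zero, map_zero, add_zero]
            map_add' := fun a b => ?_
            commutes' := fun a => ?_ }, fun r => ?_, fun x => ?_⟩
  · have h1 : D 1 = 0 := by rw [← map_one (algebraMap A R)]; exact hD.const 1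
    rw [map_one, h1, map_zero, add_zero]
  · rw [hD.mul, map_mul, map_add, ← hΦ, ← hΦ, ← X.isExtension.mul_incl, ← X.isExtension.mul_incl,
      add_mul, mul_add, mul_add, incl_mul_incl, mul_comm (X.incl (D a)) (Φ b)]
    abel
  · rw [hD.add, map_add, map_add]
    abel
  · rw [hD.const, map_zero, add_zero, AlgHom.commutes]
  · change X.proj (Φ r + X.incl (D r)) = π r
    rw [map_add, hΦ, (X.isExtension.exact _).2 ⟨_, rfl⟩, add_zero]
  · change Φ x + X.incl (D x) = X.incl (φ x + D x)
    rw [hφ, map_add]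

theorem exists_der_of_lifts {φ φ' : Phi π M} {X : Ext A B M} (h : Lifts φ X) (h' : Lifts φ' X) :
    ∃ D : R → M, IsDer π M D ∧ ∀ x : RingHom.ker π, φ' x = φ x + D x := by
  obtain ⟨Φ, hΦ, hφ⟩ := h
  obtain ⟨Φ', hΦ', hφ'⟩ := h'
  have hz : ∀ r, X.proj (Φ' r - Φ r) = 0 := fun r => by rw [map_sub, hΦ, hΦ', sub_self]
  choose D hD using fun r => (X.isExtension.exact _).1 (hz r)
  have hD' : ∀ r, Φ' r = Φ r + X.incl (D r) := fun r => by
    rw [hD]
    abel
  refine ⟨D, ⟨fun a b => ?_, fun a b => ?_, fun a => ?_⟩, fun x => ?_⟩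
  · apply X.isExtension.incl_injective
    rw [map_add, hD, hD, hD, map_add, map_add]
    abel
  · apply X.isExtension.incl_injective
    have hm := map_mul Φ' a b
    rw [hD', hD' a, hD' b, add_mul, mul_add, mul_add, incl_mul_incl, add_zero, map_mul,
      X.isExtension.mul_incl, hΦ, mul_comm (X.incl _) (Φ b), X.isExtension.mul_incl, hΦ, add_assoc,
      add_right_inj, ← map_add] at hm
    exact hm
  · apply X.isExtension.incl_injective
    rw [map_zero, hD, AlgHom.commutes, AlgHom.commutes, sub_self]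
  · apply X.isExtension.incl_injective
    rw [map_add, ← hφ', ← hφ, hD]
    abel

theorem cl_eq_iff (hπ : Function.Surjective π) (φ φ' : Phi π M) :
    (E hπ φ).cl = (E hπ φ').cl ↔
      ∃ D : R → M, IsDer π M D ∧ ∀ x : RingHom.ker π, φ' x = φ x + D x := by
  constructor
  · intro h
    obtain ⟨e⟩ := Quotient.exact h
    obtain ⟨Φ, hΦ, hφ⟩ := lifts_E hπ φ
    refine exists_der_of_lifts (X := E hπ φ') ?_ (lifts_E hπ φ')
    refine ⟨(e.toAlgEquiv : (E hπ φ).E →ₐ[A] (E hπ φ').E).comp Φ, fun r => ?_, fun x => ?_⟩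
    · exact (e.proj_apply _).trans (hΦ r)
    · exact (congrArg e.toAlgEquiv (hφ x)).trans (e.apply_incl _)
  · rintro ⟨D, hD, hx⟩
    have : φ' = φ.addDer hD := Phi.ext' hx
    subst this
    exact (cl_eq_of_lifts hπ (lifts_addDer (lifts_E hπ φ) hD)).symm

theorem exists_cl_eq (hπ : Function.Surjective π)
    (hlift : ∀ X : Ext A B M, ∃ Φ : R →ₐ[A] X.E, ∀ r, X.proj (Φ r) = π r)
    (c : Exalcom A B M) : ∃ φ : Phi π M, (E hπ φ).cl = c := by
  obtain ⟨X, rfl⟩ := Quotient.exists_rep c
  obtain ⟨Φ, hΦ⟩ := hlift X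
  obtain ⟨φ, hφ⟩ := exists_phi_of_lift X Φ hΦ
  exact ⟨φ, cl_eq_of_lifts hπ hφ⟩

theorem cl_zero (hπ : Function.Surjective π) {φ : Phi π M} (h : ∀ x, φ x = 0) :
    (E hπ φ).cl = 0 := by
  refine cl_eq_of_lifts hπ (X := Ext.trivial A B M) ⟨?_, ?_, ?_⟩
  · exact
      { toFun := fun r => (TrivSqZeroExt.inl (π r) : TrivSqZeroExt B M)
        map_one' := by rw [map_one]; rfl
        map_mul' := fun a b => by rw [map_mul, TrivSqZeroExt.inl_mul]; rfl
        map_zero' := by rw [map_zero]; rfl
        map_add' := fun a b => by rw [map_add, TrivSqZeroExt.inl_add]; rfl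
        commutes' := fun a => by rw [AlgHom.commutes]; rfl }
  · exact fun r => rfl
  · intro x
    change (TrivSqZeroExt.inl (π x) : TrivSqZeroExt B M) = TrivSqZeroExt.inr (φ x)
    rw [h, show π (x : R) = 0 from x.2]
    rfl

end Groth.Agent.CotLib.ExalPres
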