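import Groth.Agent.CotLib.ExalPres
import Groth.Agent.CotSplit.T1
import Groth.Prelude.Def_CotT2

/-!
# `T¹` of the choice-free presentation via linear maps on the kernel
-/

set_option autoImplicit false
set_option backward.isDefEq.respectTransparency false
set_option maxHeartbeats 400000
universe u

open TensorProduct

namespace Groth.Agent.CotLib.ExalT1

variable (A B : Type u) [CommRing A] [CommRing B] [Algebra A B]

/-- The polynomial ring on the elements of `B`. -/
abbrev R : Type u := (CotT.canon A B).toExtension.Ring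

/-- Its map to `B`. -/
noncomputable abbrev π : R A B →ₐ[A] B := IsScalarTower.toAlgHom A (R A B) B

variable {A B} {M : Type u} [AddCommGroup M] [Module B M]

open ExalPres

theorem π_surjective : Function.Surjective (π A B) :=
  (CotT.canon A B).toExtension.algebraMap_surjective

/-- The cocycle of `φ` as a linear map. -/
noncomputable def cocLin (φ : Phi (π A B) M) : CotT.L1 (CotT.canon A B) →ₗ[B] M :=
  (CotT.L1basis (CotT.canon A B)).constr ℕ fun s : CotT.CanonRels A B => φ ⟨s.1, s.2⟩

theorem cocLin_tmul (φ : Phi (π A B) M) (f : CotT.relMod (CotT.canon A B)) :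
    cocLin φ ((1 : B) ⊗ₜ f) = φ (CotT.jker (CotT.canon A B) f) := by
  induction f using Finsupp.induction_linear with
  | zero =>
    rw [tmul_zero, map_zero, map_zero]
    exact φ.map_zero.symm
  | add f g hf hg =>
    rw [tmul_add, map_add, hf, hg, map_add]
    exact (φ.map_add' _ _).symm
  | single s r =>
    have h1 : (1 : B) ⊗ₜ[R A B] Finsupp.single s r =
        algebraMap (R A B) B r • CotT.L1basis (CotT.canon A B) s := by
      rw [CotT.L1basis_apply, TensorProduct.smul_tmul', smul_eq_mul, mul_one, Algebra.algebraMap_eq_smul_one,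
        TensorProduct.smul_tmul, Finsupp.smul_single, smul_eq_mul, mul_one]
    rw [h1, map_smul, cocLin, Module.Basis.constr_basis]
    refine (φ.map_smul' r _).symm.trans (φ.congr ?_)
    exact (CotT.jmap_single (CotT.canon A B) s r).symm

theorem cocLin_mem (φ : Phi (π A B) M) :
    cocLin φ ∈ CotT.cocycles1 (CotT.canon A B) M := by
  rw [LinearMap.mem_ker, CotT.d2Star_apply]
  refine LinearMap.ext fun z => ?_
  obtain ⟨w, rfl⟩ := Submodule.Quotient.mk_surjective _ z
  induction w using TensorProduct.induction_on with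
  | zero => exact (map_zero _)
  | add x y hx hy => rw [Submodule.Quotient.mk_add, map_add, hx, hy, map_add]
  | tmul b q => ?_
  change cocLin φ (CotT.d2 _ (Submodule.Quotient.mk (b ⊗ₜ q))) = 0
  rw [CotT.d2_mk_tmul, ← mul_one b, ← smul_eq_mul, ← TensorProduct.smul_tmul', map_smul, cocLin_tmul,
    show CotT.jker (CotT.canon A B) (q : CotT.relMod _) = 0 from Subtype.ext q.2]
  exact (congrArg (b • ·) φ.map_zero).trans (smul_zero _)

/-- The class in `T¹`. -/
noncomputable def t1 (φ : Phi (π A B) M) : CotT.T1 (CotT.canon A B) M :=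
  Submodule.Quotient.mk ⟨cocLin φ, cocLin_mem φ⟩

/-- A map on the conormal module gives a map on the kernel. -/
noncomputable def phiOfHom (ψ : (CotT.canon A B).toExtension.Cotangent →ₗ[B] M) :
    Phi (π A B) M where
  toFun x := ψ (Algebra.Extension.Cotangent.mk (P := (CotT.canon A B).toExtension) ⟨x.1, x.2⟩)
  map_add' x y := by
    rw [← map_add ψ, ← map_add Algebra.Extension.Cotangent.mk]
    rfl
  map_smul' r x := by
    have h1 := map_smul (Algebra.Extension.Cotangent.mk (P := (CotT.canon A B).toExtension))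
      r ⟨x.1, x.2⟩
    have h2 := algebraMap_smul B r
      (Algebra.Extension.Cotangent.mk (P := (CotT.canon A B).toExtension) ⟨x.1, x.2⟩)
    exact (congrArg ψ (h1.trans h2.symm)).trans (map_smul ψ _ _)

theorem t1_surjective : Function.Surjective (t1 (A := A) (B := B) (M := M)) := by
  intro x
  obtain ⟨⟨z, hz⟩, rfl⟩ := Submodule.Quotient.mk_surjective _ x
  obtain ⟨ψ, hψ⟩ := Groth.Agent.CotSplit.exists_factor z hz
  let φ : Phi (π A B) M := phiOfHom ψ
  refine ⟨φ, congrArg Submodule.Quotient.mk (Subtype.ext ((CotT.L1basis _).ext fun s => ?_))⟩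
  change cocLin φ _ = z _
  rw [CotT.L1basis_apply, cocLin_tmul, ← hψ, LinearMap.comp_apply, CotT.toCot_tmul, one_smul]
  rfl

theorem exists_h_of_der {D : R A B → M} (hD : IsDer (π A B) M D) :
    ∃ h : CotT.L0 (CotT.canon A B) →ₗ[B] M,
      ∀ r, h ((1 : B) ⊗ₜ KaehlerDifferential.D A (R A B) r) = D r := by
  refine ⟨(CotT.canon A B).cotangentSpaceBasis.constr ℕ fun i : B => D (MvPolynomial.X i), fun r => ?_⟩
  generalize hh : (CotT.canon A B).cotangentSpaceBasis.constr ℕ
    (fun i : B => D (MvPolynomial.X i)) = h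
  refine MvPolynomial.induction_on (motive := fun r : R A B =>
    h ((1 : B) ⊗ₜ KaehlerDifferential.D A (R A B) r) = D r) r (fun a => ?_) (fun p q hp hq => ?_)
      (fun p i hp => ?_)
  · rw [show (MvPolynomial.C a : R A B) = algebraMap A (R A B) a from rfl]
    erw [Derivation.map_algebraMap, tmul_zero, map_zero]
    exact (hD.const a).symm
  · erw [map_add, tmul_add, map_add, hp, hq]
    exact (hD.add p q).symm
  · erw [Derivation.leibniz, tmul_add, map_add, tmul_smul, tmul_smul, ← algebraMap_smul (R := R A B) B p,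
      ← algebraMap_smul (R := R A B) B (MvPolynomial.X i : R A B), map_smul, map_smul, hp,
      ← Algebra.Generators.cotangentSpaceBasis_apply, ← hh, Module.Basis.constr_basis]
    exact (hD.mul p _).symm

theorem isDer_of_hom (h : CotT.L0 (CotT.canon A B) →ₗ[B] M) :
    IsDer (π A B) M (fun r => h ((1 : B) ⊗ₜ KaehlerDifferential.D A (R A B) r)) where
  add a b := by simp [tmul_add]
  mul a b := by
    change h ((1 : B) ⊗ₜ KaehlerDifferential.D A (R A B) (a * b)) = _
    rw [Derivation.leibniz, tmul_add, map_add, tmul_smul, tmul_smul, ← algebraMap_smul B a,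
      ← algebraMap_smul B b, map_smul, map_smul]
    rfl
  const a := by simp

theorem t1_eq_iff (φ φ' : Phi (π A B) M) :
    t1 φ = t1 φ' ↔
      ∃ D : R A B → M, IsDer (π A B) M D ∧ ∀ x : RingHom.ker (π A B), φ' x = φ x + D x := by
  constructor
  · intro h
    obtain ⟨g, hg⟩ := (Submodule.Quotient.eq _).1 h.symm
    refine ⟨_, isDer_of_hom g, fun x => ?_⟩
    let s : CotT.CanonRels A B := ⟨x.1, x.2⟩
    have h1 : g (CotT.d1 (CotT.canon A B) ((1 : B) ⊗ₜ Finsupp.single s 1)) =
        cocLin φ' ((1 : B) ⊗ₜ Finsupp.single s 1) - cocLin φ ((1 : B) ⊗ₜ Finsupp.single s 1) :=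
      LinearMap.congr_fun hg _
    have hj : CotT.jmap (CotT.canon A B) (Finsupp.single s 1) = x.1 :=
      (CotT.jmap_single _ s 1).trans (one_mul _)
    rw [cocLin_tmul, cocLin_tmul, CotT.d1_tmul, one_smul, hj,
      φ.congr (x := CotT.jker (CotT.canon A B) (Finsupp.single s 1)) (y := x) hj,
      φ'.congr (x := CotT.jker (CotT.canon A B) (Finsupp.single s 1)) (y := x) hj] at h1
    change φ' x = φ x + g _
    rw [h1]
    abel
  · rintro ⟨D, hD, hx⟩
    obtain ⟨g, hg⟩ := exists_h_of_der hD
    refine ((Submodule.Quotient.eq _).2 ?_).symm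
    refine ⟨g, (CotT.L1basis _).ext fun s => ?_⟩
    change g (CotT.d1 _ _) = cocLin φ' _ - cocLin φ _
    rw [CotT.L1basis_apply, cocLin_tmul, cocLin_tmul, CotT.d1_tmul, one_smul]
    refine (hg _).trans (eq_sub_of_add_eq' ?_)
    exact (hx _).symm

theorem exists_equiv_exalcom :
    ∃ e : Exal.Exalcom A B M ≃ CotT.T1 (CotT.canon A B) M, e 0 = 0 := by
  have hπ := π_surjective (A := A) (B := B)
  have hlift : ∀ X : Exal.Ext A B M, ∃ Φ : R A B →ₐ[A] X.E, ∀ r, X.proj (Φ r) = π A B r := by
    intro X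
    choose s hs using X.isExtension.proj_surjective
    refine ⟨MvPolynomial.aeval s, DFunLike.congr_fun (?_ : X.proj.comp (MvPolynomial.aeval s) = π A B)⟩
    refine MvPolynomial.algHom_ext fun i => ?_
    rw [AlgHom.comp_apply, MvPolynomial.aeval_X, hs]
    refine (Eq.trans (CotT.algebraMap_toExtension (CotT.canon A B) _) ?_).symm
    exact MvPolynomial.aeval_X _ _
  choose φ hφ using t1_surjective (A := A) (B := B) (M := M)
  have hbij : Function.Bijective fun x : CotT.T1 (CotT.canon A B) M => (E hπ (φ x)).cl := by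
    refine ⟨fun x y h => ?_, fun c => ?_⟩
    · rw [← hφ x, ← hφ y]
      exact (t1_eq_iff _ _).2 ((cl_eq_iff hπ _ _).1 h)
    · obtain ⟨ψ, rfl⟩ := exists_cl_eq hπ hlift c
      exact ⟨t1 ψ, (cl_eq_iff hπ _ _).2 ((t1_eq_iff _ _).1 (hφ (t1 ψ)))⟩
  refine ⟨(Equiv.ofBijective _ hbij).symm, (Equiv.symm_apply_eq _).2 ?_⟩
  let φ₀ : Phi (π A B) M :=
    { toFun := fun _ => 0
      map_add' := fun _ _ => (add_zero 0).symm
      map_smul' := fun r _ => (smul_zero _).symm }
  rw [← cl_zero hπ (φ := φ₀) fun _ => rfl]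
  refine ((cl_eq_iff hπ _ _).2 ((t1_eq_iff (φ 0) φ₀).1 ?_)).symm
  rw [hφ]
  refine ((Submodule.Quotient.mk_eq_zero _).2 ?_).symm
  refine ⟨0, ?_⟩
  rw [map_zero]
  refine (CotT.L1basis _).ext fun s => ?_
  rw [LinearMap.zero_apply]
  change (0 : M) = cocLin φ₀ _
  rw [CotT.L1basis_apply, cocLin_tmul]

end Groth.Agent.CotLib.ExalT1
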