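import Groth.Prelude.Def_CotT2
import Mathlib.Algebra.Algebra.Unitization

/-!
Two morphisms of presentations over the same square induce chain-homotopic maps of the three-term
cotangent complexes, hence the same maps on `Tⁱ`.

The homotopy is built from the divided difference `δ : R → F'/F₀'` of the two ring maps
`τ₁, τ₂ : R → R'`, obtained from a ring map into the unitization of `F'/F₀'`, which is a commutative
non-unital ring under `x * y = j(x) • y`.
-/

set_option autoImplicit false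
set_option linter.style.show false
set_option backward.isDefEq.respectTransparency false
noncomputable section

universe u v w t u' v' w' t' m

open TensorProduct

namespace Groth.Agent.CotLib

section DD

variable {A : Type u} {B : Type v} {ι : Type w} {σ : Type t}
variable [CommRing A] [CommRing B] [Algebra A B]
variable (P : Algebra.Presentation A B ι σ)

/-- `F/F₀`. -/
def DD : Type (max t w u) := CotT.relMod P ⧸ CotT.trivRel P

instance : AddCommGroup (DD P) := inferInstanceAs (AddCommGroup (CotT.relMod P ⧸ CotT.trivRel P))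
instance : Module P.toExtension.Ring (DD P) :=
  inferInstanceAs (Module P.toExtension.Ring (CotT.relMod P ⧸ CotT.trivRel P))

def mk : CotT.relMod P →ₗ[P.toExtension.Ring] DD P := (CotT.trivRel P).mkQ

lemma mk_surjective : Function.Surjective (mk P) := Submodule.mkQ_surjective _

lemma mk_eq_mk {x y : CotT.relMod P} : mk P x = mk P y ↔ x - y ∈ CotT.trivRel P :=
  Submodule.Quotient.eq _

def jbar : DD P →ₗ[P.toExtension.Ring] P.toExtension.Ring :=
  (CotT.trivRel P).liftQ (CotT.jmap P) (CotT.trivRel_le_relKer P)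

@[simp] lemma jbar_mk (x : CotT.relMod P) : jbar P (mk P x) = CotT.jmap P x := rfl

lemma jbar_smul_comm (x y : DD P) : jbar P x • y = jbar P y • x := by
  obtain ⟨a, rfl⟩ := mk_surjective P x
  obtain ⟨b, rfl⟩ := mk_surjective P y
  rw [jbar_mk, jbar_mk, ← map_smul, ← map_smul, mk_eq_mk]
  exact Submodule.subset_span ⟨a, b, rfl⟩

instance : Mul (DD P) := ⟨fun x y => jbar P x • y⟩

instance : NonUnitalCommRing (DD P) where
  toAddCommGroup := inferInstance
  mul x y := jbar P x • y
  left_distrib x y z := smul_add _ y z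
  right_distrib x y z := show jbar P (x + y) • z = _ by rw [map_add, add_smul]; rfl
  zero_mul x := show jbar P 0 • x = _ by rw [map_zero, zero_smul]
  mul_zero x := smul_zero _
  mul_assoc x y z := show jbar P (jbar P x • y) • z = jbar P x • jbar P y • z by
    rw [map_smul, smul_eq_mul, mul_smul]
  mul_comm x y := jbar_smul_comm P x y

lemma mul_def (x y : DD P) : x * y = jbar P x • y := rfl

instance : IsScalarTower P.toExtension.Ring (DD P) (DD P) :=
  ⟨fun r x y => by rw [smul_eq_mul, smul_eq_mul, mul_def, mul_def, map_smul, smul_eq_mul, mul_smul]⟩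

instance : SMulCommClass P.toExtension.Ring (DD P) (DD P) :=
  ⟨fun r x y => by rw [smul_eq_mul, smul_eq_mul, mul_def, mul_def, smul_comm]⟩

def jbarHom : DD P →ₙₐ[P.toExtension.Ring] P.toExtension.Ring :=
  { jbar P with
    map_zero' := map_zero (jbar P)
    map_mul' := fun x y => (map_smul (jbar P) (jbar P x) y).trans (smul_eq_mul _ _) }

/-- `F/F₀ → L₁`, `x ↦ 1 ⊗ x`. -/
def toL1 : DD P →ₗ[P.toExtension.Ring] CotT.L1 P :=
  (CotT.trivRel P).liftQ (TensorProduct.mk P.toExtension.Ring B (CotT.relMod P) 1)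
    fun y hy => CotT.one_tmul_eq_zero_of_mem_trivRel P y hy

@[simp] lemma toL1_mk (x : CotT.relMod P) : toL1 P (mk P x) = (1 : B) ⊗ₜ x := rfl

/-- The class of `1 ⊗ q` in `L₂`. -/
def cls (q : CotT.relKer P) : CotT.L2 P := Submodule.Quotient.mk ((1 : B) ⊗ₜ q)

lemma cls_congr {x y : CotT.relKer P} (h : mk P (x : CotT.relMod P) = mk P (y : CotT.relMod P)) :
    cls P x = cls P y := by
  rw [mk_eq_mk] at h
  refine (Submodule.Quotient.eq _).2 ⟨(1 : B) ⊗ₜ (⟨x - y, h⟩ : CotT.trivRelKer P), ?_⟩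
  rw [LinearMap.baseChange_tmul]
  exact map_sub (TensorProduct.mk P.toExtension.Ring B (CotT.relKer P) 1) x y

@[simp] lemma d2_cls (q : CotT.relKer P) : CotT.d2 P (cls P q) = (1 : B) ⊗ₜ (q : CotT.relMod P) :=
  CotT.d2_mk_tmul P 1 q

lemma cls_smul_tmul (b : B) (q : CotT.relKer P) :
    (Submodule.Quotient.mk (b ⊗ₜ q) : CotT.L2 P) = b • cls P q := by
  rw [cls, ← Submodule.Quotient.mk_smul, TensorProduct.smul_tmul', smul_eq_mul, mul_one]

lemma tmul_eq_smul_one (b : B) (f : CotT.relMod P) : (b ⊗ₜ f : CotT.L1 P) = b • ((1 : B) ⊗ₜ f) := by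
  rw [TensorProduct.smul_tmul', smul_eq_mul, mul_one]

lemma L2_ext {M : Type m} [AddCommGroup M] [Module B M] {f g : CotT.L2 P →ₗ[B] M}
    (h : ∀ q, f (cls P q) = g (cls P q)) : f = g := by
  refine LinearMap.ext fun z => ?_
  induction z using Submodule.Quotient.induction_on with
  | H z =>
    induction z using TensorProduct.induction_on with
    | zero => rw [Submodule.Quotient.mk_zero, map_zero, map_zero]
    | add x y hx hy => rw [Submodule.Quotient.mk_add, map_add, map_add, hx, hy]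
    | tmul b q => rw [cls_smul_tmul, map_smul, map_smul, h]

end DD

variable {A : Type u} {B : Type v} {ι : Type w} {σ : Type t}
variable {A' : Type u'} {B' : Type v'} {ι' : Type w'} {σ' : Type t'}
variable [CommRing A] [CommRing B] [Algebra A B] [CommRing A'] [CommRing B'] [Algebra A' B']
variable [Algebra A A'] [Algebra B B'] [Algebra A B'] [IsScalarTower A A' B'] [IsScalarTower A B B']
variable {P : Algebra.Presentation A B ι σ} {P' : Algebra.Presentation A' B' ι' σ'}
variable (h₁ h₂ : CotT.PresHom P P')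

lemma ringHom_C (h : CotT.PresHom P P') (a : A) :
    h.ringHom (MvPolynomial.C a) = MvPolynomial.C (algebraMap A A' a) :=
  h.hom.toAlgHom_C a

lemma ringHom_X (h : CotT.PresHom P P') (i : ι) : h.ringHom (MvPolynomial.X i) = h.hom.val i :=
  h.hom.toAlgHom_X i

lemma exists_u (i : ι) : ∃ f : CotT.relMod P', CotT.jmap P' f = h₁.hom.val i - h₂.hom.val i := by
  have h : h₁.hom.val i - h₂.hom.val i ∈ LinearMap.range (CotT.jmap P') := by
    rw [CotT.range_jmap, ← ringHom_X h₁, ← ringHom_X h₂]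
    show algebraMap P'.toExtension.Ring B'
      (h₁.ringHom (MvPolynomial.X i) - h₂.ringHom (MvPolynomial.X i)) = 0
    rw [map_sub, h₁.algebraMap_ringHom, h₂.algebraMap_ringHom, sub_self]
  exact h

/-- A lift of `g₁ i - g₂ i` to `F'`. -/
def uu (i : ι) : CotT.relMod P' := (exists_u h₁ h₂ i).choose

lemma jmap_uu (i : ι) : CotT.jmap P' (uu h₁ h₂ i) = h₁.hom.val i - h₂.hom.val i :=
  (exists_u h₁ h₂ i).choose_spec

def phi : P.toExtension.Ring →+* Unitization P'.toExtension.Ring (DD P') :=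
  MvPolynomial.eval₂Hom
    ((algebraMap P'.toExtension.Ring (Unitization P'.toExtension.Ring (DD P'))).comp
      ((MvPolynomial.C : A' →+* P'.toExtension.Ring).comp (algebraMap A A')))
    (fun i => Unitization.inl (R := P'.toExtension.Ring) (h₂.hom.val i) + Unitization.inr (mk P' (uu h₁ h₂ i)))

/-- The divided difference of the two ring maps. -/
def delta (r : P.toExtension.Ring) : DD P' := (phi h₁ h₂ r).snd

lemma phi_C (a : A) :
    phi h₁ h₂ (MvPolynomial.C a) =
      Unitization.inl (R := P'.toExtension.Ring) (MvPolynomial.C (algebraMap A A' a)) :=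
  MvPolynomial.eval₂Hom_C _ _ a

lemma phi_X (i : ι) : phi h₁ h₂ (MvPolynomial.X i) =
    Unitization.inl (R := P'.toExtension.Ring) (h₂.hom.val i) + Unitization.inr (mk P' (uu h₁ h₂ i)) :=
  MvPolynomial.eval₂Hom_X' _ _ i

lemma phi_fst (r : P.toExtension.Ring) : (phi h₁ h₂ r).fst = h₂.ringHom r := by
  suffices (Unitization.fstHom P'.toExtension.Ring (DD P')).toRingHom.comp (phi h₁ h₂) = h₂.ringHom from
    DFunLike.congr_fun this r
  refine MvPolynomial.ringHom_ext (fun a => ?_) (fun i => ?_)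
  · show (phi h₁ h₂ (MvPolynomial.C a)).fst = _
    rw [phi_C, Unitization.fst_inl]; exact (ringHom_C h₂ a).symm
  · show (phi h₁ h₂ (MvPolynomial.X i)).fst = _
    rw [phi_X, Unitization.fst_add, Unitization.fst_inl, Unitization.fst_inr, add_zero]
    exact (ringHom_X h₂ i).symm

lemma jbar_delta (r : P.toExtension.Ring) :
    jbar P' (delta h₁ h₂ r) = h₁.ringHom r - h₂.ringHom r := by
  rw [eq_sub_iff_add_eq', ← phi_fst h₁ h₂ r]
  suffices (Unitization.lift (jbarHom P')).toRingHom.comp (phi h₁ h₂) = h₁.ringHom from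
    DFunLike.congr_fun this r
  refine MvPolynomial.ringHom_ext (fun a => ?_) (fun i => ?_)
  · show Unitization.lift (jbarHom P') (phi h₁ h₂ (MvPolynomial.C a)) = _
    rw [phi_C, ← Unitization.algebraMap_eq_inl, AlgHom.commutes]
    exact (ringHom_C h₁ a).symm
  · show Unitization.lift (jbarHom P') (phi h₁ h₂ (MvPolynomial.X i)) = _
    rw [phi_X, map_add, ← Unitization.algebraMap_eq_inl, AlgHom.commutes,
      show Unitization.lift (jbarHom P') (Unitization.inr (mk P' (uu h₁ h₂ i))) =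
        CotT.jmap P' (uu h₁ h₂ i) by simp [jbarHom], jmap_uu]
    exact (add_sub_cancel _ _).trans (ringHom_X h₁ i).symm

lemma delta_add (r s : P.toExtension.Ring) :
    delta h₁ h₂ (r + s) = delta h₁ h₂ r + delta h₁ h₂ s := by
  rw [delta, map_add, Unitization.snd_add]; rfl

lemma delta_zero : delta h₁ h₂ (0 : P.toExtension.Ring) = 0 := by
  rw [delta, map_zero, Unitization.snd_zero]

lemma delta_C (a : A) : delta h₁ h₂ (MvPolynomial.C a) = 0 := by
  rw [delta, phi_C, Unitization.snd_inl]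

lemma delta_X (i : ι) : delta h₁ h₂ (MvPolynomial.X i) = mk P' (uu h₁ h₂ i) := by
  rw [delta, phi_X, Unitization.snd_add, Unitization.snd_inl, Unitization.snd_inr, zero_add]

lemma delta_mul (r s : P.toExtension.Ring) :
    delta h₁ h₂ (r * s) = h₁.ringHom r • delta h₁ h₂ s + h₂.ringHom s • delta h₁ h₂ r := by
  rw [delta, map_mul, Unitization.snd_mul, phi_fst, phi_fst, mul_def, ← delta, ← delta, jbar_delta,
    sub_smul]
  abel

/-- `relVal₁ s - relVal₂ s - δ(rel s)`, an element of `Q'/F₀'`. -/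
def ee (s : σ) : DD P' := mk P' (h₁.relVal s) - mk P' (h₂.relVal s) - delta h₁ h₂ (CotT.rel P s)

lemma jbar_ee (s : σ) : jbar P' (ee h₁ h₂ s) = 0 := by
  rw [ee, map_sub, map_sub, jbar_mk, jbar_mk, h₁.jmap_relVal, h₂.jmap_relVal, jbar_delta, sub_self]

lemma exists_qq (s : σ) : ∃ q : CotT.relKer P', mk P' (q : CotT.relMod P') = ee h₁ h₂ s := by
  obtain ⟨x, hx⟩ := mk_surjective P' (ee h₁ h₂ s)
  exact ⟨⟨x, by rw [CotT.relKer, LinearMap.mem_ker, ← jbar_mk, hx, jbar_ee]⟩, hx⟩

def qq (s : σ) : CotT.relKer P' := (exists_qq h₁ h₂ s).choose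

lemma mk_qq (s : σ) : mk P' (qq h₁ h₂ s : CotT.relMod P') = ee h₁ h₂ s :=
  (exists_qq h₁ h₂ s).choose_spec

def Qf : CotT.relMod P →ₛₗ[h₂.ringHom] CotT.relKer P' where
  toFun f := Finsupp.linearCombination P'.toExtension.Ring (qq h₁ h₂)
    (Finsupp.mapRange h₂.ringHom (map_zero _) f)
  map_add' f g := by rw [Finsupp.mapRange_add (map_add _), map_add]
  map_smul' r f := by
    rw [← map_smul]
    congr 1
    ext s
    simp [Finsupp.mapRange_apply, map_mul]

lemma Qf_single (s : σ) (r : P.toExtension.Ring) :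
    Qf h₁ h₂ (Finsupp.single s r) = h₂.ringHom r • qq h₁ h₂ s := by
  simp [Qf]

/-- The key identity in `F'/F₀'`. -/
lemma key (f : CotT.relMod P) :
    mk P' (h₁.relModMap f) - mk P' (h₂.relModMap f) =
      mk P' (Qf h₁ h₂ f : CotT.relMod P') + delta h₁ h₂ (CotT.jmap P f) := by
  induction f using Finsupp.induction_linear with
  | zero => simp [delta_zero]
  | add f g hf hg =>
    simp only [map_add, Submodule.coe_add, delta_add]
    rw [← sub_eq_zero] at hf hg ⊢
    rw [show (0 : DD P') = _ + _ from (add_zero 0).symm.trans (congrArg₂ (· + ·) hf.symm hg.symm)]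
    abel
  | single s r =>
    simp only [CotT.PresHom.relModMap_single, Qf_single, map_smul, Submodule.coe_smul, mk_qq,
      CotT.jmap_single, delta_mul]
    have h0 := jbar_smul_comm P' (delta h₁ h₂ r) (ee h₁ h₂ s)
    have h0' := jbar_smul_comm P' (delta h₁ h₂ r) (mk P' (h₂.relVal s))
    rw [jbar_ee, zero_smul, jbar_delta] at h0
    rw [jbar_delta, jbar_mk, h₂.jmap_relVal] at h0'
    simp only [ee] at h0 ⊢
    simp only [smul_sub, sub_smul] at h0 h0' ⊢
    rw [← sub_eq_zero] at h0 h0' ⊢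
    rw [show (0 : DD P') = _ + _ from (add_zero 0).symm.trans (congrArg₂ (· + ·) h0.symm h0'.symm)]
    abel

variable {M : Type m} [AddCommGroup M] [Module B' M] [Module B M] [IsScalarTower B B' M]

/-- The dual of the homotopy `L₀ → L₁'`. -/
def s0 (φ : CotT.L1 P' →ₗ[B'] M) : CotT.L0 P →ₗ[B] M :=
  P.cotangentSpaceBasis.constr B fun i => φ ((1 : B') ⊗ₜ uu h₁ h₂ i)

/-- The dual of the homotopy `L₁ → L₂'`. -/
def s1 (ξ : CotT.L2 P' →ₗ[B'] M) : CotT.L1 P →ₗ[B] M :=
  (CotT.L1basis P).constr B fun s => ξ (cls P' (qq h₁ h₂ s))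

lemma L0basis_apply (i : ι) : P.cotangentSpaceBasis i =
    ((1 : B) ⊗ₜ KaehlerDifferential.D A P.toExtension.Ring (MvPolynomial.X i) : CotT.L0 P) :=
  Algebra.Generators.cotangentSpaceBasis_apply P.toGenerators i

lemma L0map_tmul_D (h : CotT.PresHom P P') (r : P.toExtension.Ring) :
    h.L0map ((1 : B) ⊗ₜ KaehlerDifferential.D A P.toExtension.Ring r) =
      (1 : B') ⊗ₜ KaehlerDifferential.D A' P'.toExtension.Ring (h.ringHom r) := by
  rw [CotT.PresHom.L0map_apply, Algebra.Extension.CotangentSpace.map_tmul, map_one]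
  rfl

lemma toL1_smul (r : P'.toExtension.Ring) (x : DD P') :
    toL1 P' (r • x) = algebraMap P'.toExtension.Ring B' r • toL1 P' x := by
  rw [map_smul, algebraMap_smul]

lemma s0_tmul_D (φ : CotT.L1 P' →ₗ[B'] M) (r : P.toExtension.Ring) :
    s0 h₁ h₂ φ ((1 : B) ⊗ₜ KaehlerDifferential.D A P.toExtension.Ring r) =
      φ (toL1 P' (delta h₁ h₂ r)) := by
  induction r using MvPolynomial.induction_on with
  | C a =>
    rw [delta_C, map_zero, map_zero,
      show (MvPolynomial.C a : P.toExtension.Ring) = algebraMap A P.toExtension.Ring a from rfl,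
      Derivation.map_algebraMap, TensorProduct.tmul_zero, map_zero]
  | add p q hp hq => rw [map_add, TensorProduct.tmul_add, map_add, hp, hq, delta_add, map_add, map_add]
  | mul_X p i hp =>
    have hi : s0 h₁ h₂ φ ((1 : B) ⊗ₜ KaehlerDifferential.D A P.toExtension.Ring (MvPolynomial.X i)) =
        φ ((1 : B') ⊗ₜ uu h₁ h₂ i) := by
      rw [← L0basis_apply, s0, Module.Basis.constr_basis]
    rw [Derivation.leibniz, TensorProduct.tmul_add, TensorProduct.tmul_smul, TensorProduct.tmul_smul,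
      map_add, ← algebraMap_smul (R := P.toExtension.Ring) B p, ← algebraMap_smul (R := P.toExtension.Ring) B (MvPolynomial.X i),
      map_smul, map_smul, hi, hp, delta_mul, map_add, toL1_smul, toL1_smul, delta_X, toL1_mk,
      h₁.algebraMap_ringHom, h₂.algebraMap_ringHom, map_add, map_smul, map_smul,
      IsScalarTower.algebraMap_smul B', IsScalarTower.algebraMap_smul B']

lemma pull0_sub (ψ : CotT.L0 P' →ₗ[B'] M) :
    h₁.pull0 M ψ - h₂.pull0 M ψ = s0 h₁ h₂ (CotT.d1Star P' M ψ) := by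
  refine P.cotangentSpaceBasis.ext fun i => ?_
  rw [LinearMap.sub_apply, s0, Module.Basis.constr_basis, CotT.PresHom.pull0_apply,
    CotT.PresHom.pull0_apply, L0basis_apply, L0map_tmul_D, L0map_tmul_D, ← map_sub,
    ← TensorProduct.tmul_sub, ← map_sub, CotT.d1Star_apply, LinearMap.comp_apply, CotT.d1_tmul,
    one_smul, jmap_uu, ringHom_X, ringHom_X]

lemma pull1_sub (φ : CotT.L1 P' →ₗ[B'] M) :
    h₁.pull1 M φ - h₂.pull1 M φ =
      CotT.d1Star P M (s0 h₁ h₂ φ) + s1 h₁ h₂ (CotT.d2Star P' M φ) := by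
  refine (CotT.L1basis P).ext fun s => ?_
  rw [LinearMap.sub_apply, LinearMap.add_apply, s1, Module.Basis.constr_basis, CotT.L1basis_apply,
    CotT.d1Star_apply, LinearMap.comp_apply, CotT.d1_tmul, one_smul, s0_tmul_D, CotT.jmap_single,
    one_mul, CotT.PresHom.pull1_apply, CotT.PresHom.pull1_apply, CotT.PresHom.L1map_tmul,
    CotT.PresHom.L1map_tmul, map_one, CotT.PresHom.relModMap_single, map_one, one_smul,
    CotT.PresHom.relModMap_single, map_one, one_smul, CotT.d2Star_apply, LinearMap.comp_apply,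
    d2_cls, ← toL1_mk, ← toL1_mk, ← toL1_mk, mk_qq, ee, ← map_sub, ← map_sub, ← map_add, ← map_add]
  congr 2
  abel

lemma s1_tmul (ξ : CotT.L2 P' →ₗ[B'] M) (f : CotT.relMod P) :
    s1 h₁ h₂ ξ ((1 : B) ⊗ₜ f) = ξ (cls P' (Qf h₁ h₂ f)) := by
  induction f using Finsupp.induction_linear with
  | zero => simp [cls]
  | add f g hf hg =>
    rw [TensorProduct.tmul_add, map_add, hf, hg, map_add, cls, cls, cls, TensorProduct.tmul_add,
      Submodule.Quotient.mk_add, map_add]
  | single s r =>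
    rw [Qf_single, ← Finsupp.smul_single_one, TensorProduct.tmul_smul, ← algebraMap_smul B r
      ((1 : B) ⊗ₜ[P.toExtension.Ring] Finsupp.single s (1 : P.toExtension.Ring)),
      map_smul, ← CotT.L1basis_apply, s1, Module.Basis.constr_basis, cls, cls,
      TensorProduct.tmul_smul, ← algebraMap_smul B' (h₂.ringHom r), Submodule.Quotient.mk_smul,
      map_smul, h₂.algebraMap_ringHom, IsScalarTower.algebraMap_smul B']

lemma L2map_cls (h : CotT.PresHom P P') (q : CotT.relKer P) :
    h.L2map (cls P q) = cls P' (h.relKerMap q) := by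
  rw [cls, CotT.PresHom.L2map_mk_tmul, map_one]
  rfl

lemma pull2_sub (ξ : CotT.L2 P' →ₗ[B'] M) :
    h₁.pull2 M ξ - h₂.pull2 M ξ = CotT.d2Star P M (s1 h₁ h₂ ξ) := by
  refine L2_ext P fun q => ?_
  rw [LinearMap.sub_apply, CotT.d2Star_apply, LinearMap.comp_apply, CotT.PresHom.pull2_apply,
    CotT.PresHom.pull2_apply, L2map_cls, L2map_cls, d2_cls, s1_tmul, ← map_sub]
  refine congrArg ξ (Eq.trans ?_ (cls_congr P' (x := h₁.relKerMap q - h₂.relKerMap q) ?_))
  · rw [cls, cls, cls, ← Submodule.Quotient.mk_sub]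
    exact congrArg _ (map_sub (TensorProduct.mk P'.toExtension.Ring B' (CotT.relKer P') 1) _ _).symm
  have hq : CotT.jmap P (q : CotT.relMod P) = 0 := q.2
  rw [Submodule.coe_sub, map_sub, CotT.PresHom.relKerMap_coe, CotT.PresHom.relKerMap_coe, key, hq,
    delta_zero, add_zero]

variable (M)

theorem T0pull_eq : h₁.T0pull M = h₂.T0pull M := by
  refine LinearMap.ext fun ψ => Subtype.ext ?_
  show h₁.pull0 M (ψ : CotT.L0 P' →ₗ[B'] M) = h₂.pull0 M (ψ : CotT.L0 P' →ₗ[B'] M)
  rw [← sub_eq_zero, pull0_sub, show CotT.d1Star P' M (ψ : CotT.L0 P' →ₗ[B'] M) = 0 from ψ.2]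
  refine P.cotangentSpaceBasis.ext fun i => ?_
  rw [s0, Module.Basis.constr_basis]
  rfl

lemma T1pull_mk (h : CotT.PresHom P P') (c : CotT.cocycles1 P' M) :
    h.T1pull M (Submodule.Quotient.mk c) = Submodule.Quotient.mk (h.cocycles1Pull M c) := rfl

theorem T1pull_eq : h₁.T1pull M = h₂.T1pull M := by
  refine LinearMap.ext fun x => ?_
  obtain ⟨c, rfl⟩ := Submodule.Quotient.mk_surjective _ x
  rw [T1pull_mk, T1pull_mk, Submodule.Quotient.eq]
  refine ⟨s0 h₁ h₂ (c : CotT.L1 P' →ₗ[B'] M), ?_⟩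
  show CotT.d1Star P M _ = h₁.pull1 M (c : CotT.L1 P' →ₗ[B'] M) - h₂.pull1 M (c : CotT.L1 P' →ₗ[B'] M)
  rw [pull1_sub, show CotT.d2Star P' M (c : CotT.L1 P' →ₗ[B'] M) = 0 from c.2,
    show s1 h₁ h₂ (0 : CotT.L2 P' →ₗ[B'] M) = 0 from (CotT.L1basis P).ext fun s => by
      rw [s1, Module.Basis.constr_basis]; rfl, add_zero]

lemma T2pull_mk (h : CotT.PresHom P P') (c : CotT.L2 P' →ₗ[B'] M) :
    h.T2pull M (Submodule.Quotient.mk c) = Submodule.Quotient.mk (h.pull2 M c) := rfl

theorem T2pull_eq : h₁.T2pull M = h₂.T2pull M := by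
  refine LinearMap.ext fun x => ?_
  obtain ⟨c, rfl⟩ := Submodule.Quotient.mk_surjective _ x
  rw [T2pull_mk, T2pull_mk, Submodule.Quotient.eq]
  exact ⟨s1 h₁ h₂ c, (pull2_sub h₁ h₂ c).symm⟩

end Groth.Agent.CotLib
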