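import Groth.Agent.CotLib.Homotopy

/-!
Composition of morphisms of presentations, and independence of `Tⁱ` of the presentation.
-/

set_option autoImplicit false
set_option backward.isDefEq.respectTransparency false
noncomputable section

universe u v w t u' v' w' t' u'' v'' w'' t'' m

open TensorProduct

namespace Groth.Agent.CotLib

section OfHom

variable {A : Type u} {B : Type v} {ι : Type w} {σ : Type t}
variable {A' : Type u'} {B' : Type v'} {ι' : Type w'} {σ' : Type t'}
variable [CommRing A] [CommRing B] [Algebra A B] [CommRing A'] [CommRing B'] [Algebra A' B']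
variable [Algebra A A'] [Algebra B B'] [Algebra A B'] [IsScalarTower A A' B'] [IsScalarTower A B B']
variable {P : Algebra.Presentation A B ι σ} {P' : Algebra.Presentation A' B' ι' σ'}

lemma exists_relVal (f : Algebra.Generators.Hom P.toGenerators P'.toGenerators) (s : σ) :
    ∃ x : CotT.relMod P', CotT.jmap P' x = f.toExtensionHom.toRingHom (CotT.rel P s) := by
  have h : f.toExtensionHom.toRingHom (CotT.rel P s) ∈ LinearMap.range (CotT.jmap P') := by
    rw [CotT.range_jmap]
    show algebraMap P'.toExtension.Ring B' _ = 0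
    rw [f.toExtensionHom.algebraMap_toRingHom, CotT.algebraMap_rel, map_zero]
  exact h

/-- A morphism of presentations with given images of the variables. -/
def ofHom (f : Algebra.Generators.Hom P.toGenerators P'.toGenerators) : CotT.PresHom P P' where
  hom := f
  relVal s := (exists_relVal f s).choose
  jmap_relVal s := (exists_relVal f s).choose_spec

variable (P P') in
lemma nonempty_presHom : Nonempty (CotT.PresHom P P') :=
  ⟨ofHom (Algebra.Generators.defaultHom _ _)⟩

end OfHom

section Id

variable {A : Type u} {B : Type v} {ι : Type w} {σ : Type t}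
variable [CommRing A] [CommRing B] [Algebra A B]
variable (P : Algebra.Presentation A B ι σ) (M : Type m) [AddCommGroup M] [Module B M]

lemma ringHom_id (r : P.toExtension.Ring) : (CotT.PresHom.id P).ringHom r = r := by
  show MvPolynomial.aeval MvPolynomial.X r = r
  exact MvPolynomial.aeval_X_left_apply r

lemma relModMap_id (f : CotT.relMod P) : (CotT.PresHom.id P).relModMap f = f := by
  induction f using Finsupp.induction_linear with
  | zero => simp
  | add f g hf hg => rw [map_add, hf, hg]
  | single s r =>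
    rw [CotT.PresHom.relModMap_single, ringHom_id]
    show r • Finsupp.single s 1 = _
    rw [Finsupp.smul_single, smul_eq_mul, mul_one]

lemma pull0_id (ψ : CotT.L0 P →ₗ[B] M) : (CotT.PresHom.id P).pull0 M ψ = ψ := by
  refine P.cotangentSpaceBasis.ext fun i => ?_
  rw [CotT.PresHom.pull0_apply, L0basis_apply, L0map_tmul_D, ringHom_id]

lemma pull1_id (φ : CotT.L1 P →ₗ[B] M) : (CotT.PresHom.id P).pull1 M φ = φ := by
  refine (CotT.L1basis P).ext fun s => ?_
  rw [CotT.PresHom.pull1_apply, CotT.L1basis_apply, CotT.PresHom.L1map_tmul, relModMap_id]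
  rfl

lemma pull2_id (ξ : CotT.L2 P →ₗ[B] M) : (CotT.PresHom.id P).pull2 M ξ = ξ := by
  refine L2_ext P fun q => ?_
  rw [CotT.PresHom.pull2_apply, L2map_cls]
  exact congrArg ξ (congrArg (cls P) (Subtype.ext (relModMap_id P q)))

lemma T0pull_id (x : CotT.T0 P M) : (CotT.PresHom.id P).T0pull M x = x :=
  Subtype.ext (pull0_id P M x)

lemma T1pull_id (x : CotT.T1 P M) : (CotT.PresHom.id P).T1pull M x = x := by
  obtain ⟨c, rfl⟩ := Submodule.Quotient.mk_surjective _ x
  rw [T1pull_mk]
  exact congrArg _ (Subtype.ext (pull1_id P M c))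

lemma T2pull_id (x : CotT.T2 P M) : (CotT.PresHom.id P).T2pull M x = x := by
  obtain ⟨c, rfl⟩ := Submodule.Quotient.mk_surjective _ x
  rw [T2pull_mk, pull2_id]

end Id

section Comp

variable {A : Type u} {B : Type v} {ι : Type w} {σ : Type t}
variable {A' : Type u'} {B' : Type v'} {ι' : Type w'} {σ' : Type t'}
variable {A'' : Type u''} {B'' : Type v''} {ι'' : Type w''} {σ'' : Type t''}
variable [CommRing A] [CommRing B] [Algebra A B] [CommRing A'] [CommRing B'] [Algebra A' B']
variable [CommRing A''] [CommRing B''] [Algebra A'' B'']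
variable [Algebra A A'] [Algebra B B'] [Algebra A B'] [IsScalarTower A A' B'] [IsScalarTower A B B']
variable [Algebra A' A''] [Algebra B' B''] [Algebra A' B''] [IsScalarTower A' A'' B'']
  [IsScalarTower A' B' B'']
variable [Algebra A A''] [Algebra B B''] [Algebra A B''] [IsScalarTower A A'' B'']
  [IsScalarTower A B B'']
variable [IsScalarTower A A' A''] [IsScalarTower B B' B'']
variable {P : Algebra.Presentation A B ι σ} {P' : Algebra.Presentation A' B' ι' σ'}
  {P'' : Algebra.Presentation A'' B'' ι'' σ''}
variable (h' : CotT.PresHom P' P'') (h : CotT.PresHom P P')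

lemma comp_toRingHom (r : P.toExtension.Ring) :
    (h'.hom.comp h.hom).toExtensionHom.toRingHom r = h'.ringHom (h.ringHom r) :=
  Algebra.Generators.Hom.toAlgHom_comp_apply (f := h.hom) (g := h'.hom) (x := r)

/-- Composition of morphisms of presentations. -/
def comp : CotT.PresHom P P'' where
  hom := h'.hom.comp h.hom
  relVal s := h'.relModMap (h.relVal s)
  jmap_relVal s := by rw [h'.jmap_relModMap, h.jmap_relVal, comp_toRingHom]

lemma relModMap_comp (f : CotT.relMod P) :
    (comp h' h).relModMap f = h'.relModMap (h.relModMap f) := by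
  induction f using Finsupp.induction_linear with
  | zero => simp
  | add f g hf hg => rw [map_add, hf, hg, map_add, map_add]
  | single s r =>
    rw [CotT.PresHom.relModMap_single, CotT.PresHom.relModMap_single, LinearMap.map_smulₛₗ]
    exact congrArg (· • h'.relModMap (h.relVal s)) (comp_toRingHom h' h r)

variable (M : Type m) [AddCommGroup M] [Module B'' M] [Module B' M] [Module B M]
  [IsScalarTower B' B'' M] [IsScalarTower B B'' M] [IsScalarTower B B' M]

lemma pull0_comp (ψ : CotT.L0 P'' →ₗ[B''] M) :
    (comp h' h).pull0 M ψ = h.pull0 M (h'.pull0 M ψ) := by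
  refine P.cotangentSpaceBasis.ext fun i => ?_
  rw [CotT.PresHom.pull0_apply, CotT.PresHom.pull0_apply, CotT.PresHom.pull0_apply, L0basis_apply,
    L0map_tmul_D, L0map_tmul_D, L0map_tmul_D]
  exact congrArg (fun z => ψ ((1 : B'') ⊗ₜ KaehlerDifferential.D A'' P''.toExtension.Ring z))
    (comp_toRingHom h' h _)

lemma pull1_comp (φ : CotT.L1 P'' →ₗ[B''] M) :
    (comp h' h).pull1 M φ = h.pull1 M (h'.pull1 M φ) := by
  refine (CotT.L1basis P).ext fun s => ?_
  rw [CotT.PresHom.pull1_apply, CotT.PresHom.pull1_apply, CotT.PresHom.pull1_apply, CotT.L1basis_apply,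
    CotT.PresHom.L1map_tmul, CotT.PresHom.L1map_tmul, CotT.PresHom.L1map_tmul, relModMap_comp]
  simp only [map_one]

lemma pull2_comp (ξ : CotT.L2 P'' →ₗ[B''] M) :
    (comp h' h).pull2 M ξ = h.pull2 M (h'.pull2 M ξ) := by
  refine L2_ext P fun q => ?_
  rw [CotT.PresHom.pull2_apply, CotT.PresHom.pull2_apply, CotT.PresHom.pull2_apply, L2map_cls,
    L2map_cls, L2map_cls]
  exact congrArg ξ (congrArg (cls P'') (Subtype.ext (relModMap_comp h' h q)))

lemma T0pull_comp (x : CotT.T0 P'' M) :
    (comp h' h).T0pull M x = h.T0pull M (h'.T0pull M x) :=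
  Subtype.ext (pull0_comp h' h M x)

lemma T1pull_comp (x : CotT.T1 P'' M) :
    (comp h' h).T1pull M x = h.T1pull M (h'.T1pull M x) := by
  obtain ⟨c, rfl⟩ := Submodule.Quotient.mk_surjective _ x
  rw [T1pull_mk, T1pull_mk, T1pull_mk]
  exact congrArg _ (Subtype.ext (pull1_comp h' h M c))

lemma T2pull_comp (x : CotT.T2 P'' M) :
    (comp h' h).T2pull M x = h.T2pull M (h'.T2pull M x) := by
  obtain ⟨c, rfl⟩ := Submodule.Quotient.mk_surjective _ x
  rw [T2pull_mk, T2pull_mk, T2pull_mk, pull2_comp]

end Comp

section Iso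

variable {A : Type u} {B : Type v} {ι : Type w} {σ : Type t} {ι' : Type w'} {σ' : Type t'}
variable [CommRing A] [CommRing B] [Algebra A B]
variable {P : Algebra.Presentation A B ι σ} {P' : Algebra.Presentation A B ι' σ'}
variable (M : Type m) [AddCommGroup M] [Module B M]

theorem T0pull_bijective (h : CotT.PresHom P P') : Function.Bijective (h.T0pull M) := by
  obtain ⟨h'⟩ := nonempty_presHom P' P
  refine Function.bijective_iff_has_inverse.2 ⟨h'.T0pull M, fun x => ?_, fun x => ?_⟩
  · rw [← T0pull_comp, T0pull_eq (comp h h') (CotT.PresHom.id P') M, T0pull_id]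
  · rw [← T0pull_comp, T0pull_eq (comp h' h) (CotT.PresHom.id P) M, T0pull_id]

theorem T1pull_bijective (h : CotT.PresHom P P') : Function.Bijective (h.T1pull M) := by
  obtain ⟨h'⟩ := nonempty_presHom P' P
  refine Function.bijective_iff_has_inverse.2 ⟨h'.T1pull M, fun x => ?_, fun x => ?_⟩
  · rw [← T1pull_comp, T1pull_eq (comp h h') (CotT.PresHom.id P') M, T1pull_id]
  · rw [← T1pull_comp, T1pull_eq (comp h' h) (CotT.PresHom.id P) M, T1pull_id]

theorem T2pull_bijective (h : CotT.PresHom P P') : Function.Bijective (h.T2pull M) := by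
  obtain ⟨h'⟩ := nonempty_presHom P' P
  refine Function.bijective_iff_has_inverse.2 ⟨h'.T2pull M, fun x => ?_, fun x => ?_⟩
  · rw [← T2pull_comp, T2pull_eq (comp h h') (CotT.PresHom.id P') M, T2pull_id]
  · rw [← T2pull_comp, T2pull_eq (comp h' h) (CotT.PresHom.id P) M, T2pull_id]

variable (P P')

def T0equiv : CotT.T0 P' M ≃ₗ[B] CotT.T0 P M :=
  LinearEquiv.ofBijective _ (T0pull_bijective M (nonempty_presHom P P').some)

def T1equiv : CotT.T1 P' M ≃ₗ[B] CotT.T1 P M :=
  LinearEquiv.ofBijective _ (T1pull_bijective M (nonempty_presHom P P').some)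

def T2equiv : CotT.T2 P' M ≃ₗ[B] CotT.T2 P M :=
  LinearEquiv.ofBijective _ (T2pull_bijective M (nonempty_presHom P P').some)

end Iso

end Groth.Agent.CotLib
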