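import Groth.Agent.CotLib.Iso

/-!
The Jacobi–Zariski sequence for the composite presentation: the two morphisms of presentations, and
left exactness of the rows of the dual complexes.
-/

set_option autoImplicit false
set_option backward.isDefEq.respectTransparency false
noncomputable section

universe u v v' w t w' t' m

open TensorProduct

namespace Groth.Agent.CotLib

variable {A : Type u} {B : Type v} {C : Type v'} {ι : Type w} {σ : Type t} {ι' : Type w'} {σ' : Type t'}
variable [CommRing A] [CommRing B] [CommRing C] [Algebra A B] [Algebra B C] [Algebra A C]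
  [IsScalarTower A B C]
variable (Q : Algebra.Presentation B C ι' σ') (P : Algebra.Presentation A B ι σ)

/-- The morphism `P → Q ∘ P`. -/
def leftHom : CotT.PresHom P (Q.comp P) where
  hom := Q.toGenerators.toComp P.toGenerators
  relVal t := Finsupp.single (Sum.inr t) 1
  jmap_relVal t := by
    rw [CotT.jmap_single, one_mul]
    show MvPolynomial.rename Sum.inr (P.relation t) =
      (Q.toGenerators.toComp P.toGenerators).toAlgHom (P.relation t)
    rw [Algebra.Generators.toComp_toAlgHom]

/-- The morphism `Q ∘ P → Q`. -/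
def rightHom : CotT.PresHom (Q.comp P) Q where
  hom := Q.toGenerators.ofComp P.toGenerators
  relVal x := Sum.elim (fun s => Finsupp.single s 1) (fun _ => 0) x
  jmap_relVal x := by
    show _ = (Q.toGenerators.ofComp P.toGenerators).toAlgHom ((Q.comp P).relation x)
    cases x with
    | inl s =>
      rw [Sum.elim_inl, CotT.jmap_single, one_mul]
      exact (Q.comp_aeval_relation_inl P s).symm
    | inr t =>
      rw [Sum.elim_inr, map_zero, Algebra.Presentation.comp_relation_inr]
      refine ((Algebra.Generators.toAlgHom_ofComp_rename _ _ _).trans ?_).symm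
      rw [show algebraMap P.toGenerators.Ring B (P.relation t) = 0 from P.relation_mem_ker t, map_zero]

lemma rightHom_ringHom_surjective : Function.Surjective (rightHom Q P).ringHom :=
  Algebra.Generators.toAlgHom_ofComp_surjective Q.toGenerators P.toGenerators

lemma relModMap_right_inl (s : σ') (r : (Q.comp P).toExtension.Ring) :
    (rightHom Q P).relModMap (Finsupp.single (Sum.inl s) r) =
      Finsupp.single s ((rightHom Q P).ringHom r) := by
  rw [CotT.PresHom.relModMap_single]
  exact Finsupp.smul_single_one _ _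

lemma relModMap_right_inr (t : σ) (r : (Q.comp P).toExtension.Ring) :
    (rightHom Q P).relModMap (Finsupp.single (Sum.inr t) r) = 0 := by
  rw [CotT.PresHom.relModMap_single]
  exact smul_zero _

lemma relModMap_left (t : σ) (r : P.toExtension.Ring) :
    (leftHom Q P).relModMap (Finsupp.single t r) =
      Finsupp.single (Sum.inr t) ((leftHom Q P).ringHom r) := by
  rw [CotT.PresHom.relModMap_single]
  exact Finsupp.smul_single_one _ _

/-- The elements of `F(Q ∘ P)` supported on the relations of `P`. -/
def supP : (σ →₀ (Q.comp P).toExtension.Ring) →ₗ[(Q.comp P).toExtension.Ring] CotT.relMod (Q.comp P) :=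
  Finsupp.lmapDomain _ _ Sum.inr

lemma exists_jmap_supP {x : (Q.comp P).toExtension.Ring} (hx : (rightHom Q P).ringHom x = 0) :
    ∃ c, CotT.jmap (Q.comp P) (supP Q P c) = x := by
  have h : x ∈ Ideal.map (Q.toGenerators.toComp P.toGenerators).toAlgHom P.ker := by
    rw [Algebra.Generators.map_toComp_ker]; exact hx
  rw [← P.span_range_relation_eq_ker, Ideal.map_span, ← Set.range_comp, Ideal.span,
    ← Finsupp.range_linearCombination] at h
  obtain ⟨c, hc⟩ := h
  refine ⟨c, ?_⟩
  rw [supP, Finsupp.lmapDomain_apply, CotT.jmap, Finsupp.linearCombination_mapDomain]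
  refine Eq.trans ?_ hc
  congr 2
  funext t
  show MvPolynomial.rename Sum.inr (P.relation t) = _
  rw [Function.comp_apply, Algebra.Generators.toComp_toAlgHom]

lemma relModMap_right_supP (c : σ →₀ (Q.comp P).toExtension.Ring) :
    (rightHom Q P).relModMap (supP Q P c) = 0 := by
  induction c using Finsupp.induction_linear with
  | zero => simp
  | add a b ha hb => rw [map_add, map_add, ha, hb, add_zero]
  | single t r => rw [supP, Finsupp.lmapDomain_apply, Finsupp.mapDomain_single, relModMap_right_inr]

lemma relModMap_right_surjective : Function.Surjective (rightHom Q P).relModMap := by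
  intro f
  induction f using Finsupp.induction_linear with
  | zero => exact ⟨0, map_zero _⟩
  | add a b ha hb =>
    obtain ⟨a, rfl⟩ := ha
    obtain ⟨b, rfl⟩ := hb
    exact ⟨a + b, map_add _ _ _⟩
  | single s r =>
    obtain ⟨r, rfl⟩ := rightHom_ringHom_surjective Q P r
    exact ⟨Finsupp.single (Sum.inl s) r, relModMap_right_inl Q P s r⟩

lemma relKerMap_right_surjective (q : CotT.relKer Q) :
    ∃ q', (rightHom Q P).relKerMap q' = q := by
  obtain ⟨f, hf⟩ := relModMap_right_surjective Q P q
  have h0 : (rightHom Q P).ringHom (CotT.jmap _ f) = 0 := by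
    rw [← CotT.PresHom.jmap_relModMap, hf]; exact q.2
  obtain ⟨c, hc⟩ := exists_jmap_supP Q P h0
  refine ⟨⟨f - supP Q P c, ?_⟩, Subtype.ext ?_⟩
  · rw [CotT.relKer, LinearMap.mem_ker, map_sub, hc, sub_self]
  · rw [CotT.PresHom.relKerMap_coe, map_sub, hf, relModMap_right_supP, sub_zero]

lemma exists_trivRel_lift {y : CotT.relMod Q} (hy : y ∈ CotT.trivRel Q) :
    ∃ t ∈ CotT.trivRel (Q.comp P), (rightHom Q P).relModMap t = y := by
  induction hy using Submodule.span_induction with
  | mem y hy =>
    obtain ⟨a, b, rfl⟩ := hy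
    obtain ⟨a, rfl⟩ := relModMap_right_surjective Q P a
    obtain ⟨b, rfl⟩ := relModMap_right_surjective Q P b
    refine ⟨_, Submodule.subset_span ⟨a, b, rfl⟩, ?_⟩
    rw [map_sub, LinearMap.map_smulₛₗ, LinearMap.map_smulₛₗ, CotT.PresHom.jmap_relModMap,
      CotT.PresHom.jmap_relModMap]
  | zero => exact ⟨0, zero_mem _, map_zero _⟩
  | add a b _ _ ha hb =>
    obtain ⟨a, h1, rfl⟩ := ha
    obtain ⟨b, h2, rfl⟩ := hb
    exact ⟨a + b, add_mem h1 h2, map_add _ _ _⟩
  | smul r a _ ha =>
    obtain ⟨a, h1, rfl⟩ := ha
    obtain ⟨r, rfl⟩ := rightHom_ringHom_surjective Q P r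
    exact ⟨r • a, Submodule.smul_mem _ r h1, LinearMap.map_smulₛₗ _ _ _⟩

/-- `(A[X])[Y] ≅ A[Y ⊕ X]`. -/
abbrev sumEquiv : (Q.comp P).toExtension.Ring ≃ₐ[A] MvPolynomial ι' P.toExtension.Ring :=
  MvPolynomial.sumAlgEquiv A ι' ι

lemma sumEquiv_left (p : P.toExtension.Ring) :
    sumEquiv Q P ((leftHom Q P).ringHom p) = MvPolynomial.C p := by
  show sumEquiv Q P ((Q.toGenerators.toComp P.toGenerators).toAlgHom p) = _
  rw [Algebra.Generators.toComp_toAlgHom]
  induction p using MvPolynomial.induction_on with
  | C a =>
    erw [MvPolynomial.rename_C, MvPolynomial.sumAlgEquiv_C_inl]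
    rfl
  | add a b ha hb =>
    erw [map_add, map_add, ha, hb, map_add]
  | mul_X a i ha =>
    erw [map_mul, map_mul, ha, MvPolynomial.rename_X, MvPolynomial.sumAlgEquiv_X_inr, map_mul]
    rfl

/-- The functional on relations: an element of `Q(Q∘P)` killed in `F(Q)` modulo trivial relations. -/
lemma exists_decomp (q : CotT.relKer (Q.comp P))
    (hq : ((rightHom Q P).relKerMap q : CotT.relMod Q) ∈ CotT.trivRel Q) :
    ∃ (S : Finset (ι' →₀ ℕ)) (p : (ι' →₀ ℕ) → CotT.relKer P)
      (r : (ι' →₀ ℕ) → (Q.comp P).toExtension.Ring),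
      mk (Q.comp P) (q : CotT.relMod (Q.comp P)) =
        ∑ v ∈ S, mk (Q.comp P) (r v • (leftHom Q P).relModMap (p v : CotT.relMod P)) := by
  classical
  obtain ⟨t, ht, hqt⟩ := exists_trivRel_lift Q P hq
  have hmt : mk (Q.comp P) t = 0 := by
    rw [← map_zero (mk (Q.comp P)), mk_eq_mk, sub_zero]; exact ht
  have h2 : ∀ f, (rightHom Q P).relModMap f = 0 →
      ∃ c, mk (Q.comp P) f = mk (Q.comp P) (supP Q P c) := by
    intro f hf
    have hcoef : ∀ (g : CotT.relMod (Q.comp P)) (s : σ'),
        (rightHom Q P).ringHom (g (Sum.inl s)) = (rightHom Q P).relModMap g s := by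
      intro g s
      induction g using Finsupp.induction_linear with
      | zero => simp
      | add a b ha hb => rw [Finsupp.add_apply, map_add, ha, hb, map_add, Finsupp.add_apply]
      | single x r =>
        cases x with
        | inl s' =>
          rw [relModMap_right_inl]
          by_cases h : s' = s
          · subst h; simp
          · rw [Finsupp.single_eq_of_ne (by simpa [eq_comm] using h), map_zero,
              Finsupp.single_eq_of_ne (Ne.symm h)]
        | inr t =>
          rw [relModMap_right_inr, Finsupp.single_eq_of_ne (by simp), map_zero, Finsupp.zero_apply]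
    rw [← Finsupp.sum_single f, Finsupp.sum]
    suffices ∀ x, ∃ c, mk (Q.comp P) (Finsupp.single x (f x)) = mk (Q.comp P) (supP Q P c) by
      choose c hc using this
      exact ⟨∑ x ∈ f.support, c x, by rw [map_sum, map_sum, map_sum]; exact Finset.sum_congr rfl fun x _ => hc x⟩
    intro x
    cases x with
    | inr t =>
      exact ⟨Finsupp.single t (f (Sum.inr t)), by rw [supP, Finsupp.lmapDomain_apply, Finsupp.mapDomain_single]⟩
    | inl s =>
      obtain ⟨c, hc⟩ := exists_jmap_supP Q P (x := f (Sum.inl s)) (by rw [hcoef, hf]; rfl)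
      refine ⟨CotT.rel (Q.comp P) (Sum.inl s) • c, ?_⟩
      rw [map_smul, ← Finsupp.smul_single_one, ← hc, map_smul, map_smul, ← jbar_mk, jbar_smul_comm,
        jbar_mk, CotT.jmap_single, one_mul]
  obtain ⟨c, hc⟩ := h2 (q - t) (by
    rw [map_sub, hqt, ← CotT.PresHom.relKerMap_coe, sub_self])
  rw [map_sub, hmt, sub_zero] at hc
  have hjc : CotT.jmap (Q.comp P) (supP Q P c) = 0 := by
    rw [← jbar_mk, ← hc, jbar_mk]; exact q.2
  let E := sumEquiv Q P
  let p : (ι' →₀ ℕ) → (σ →₀ P.toExtension.Ring) := fun v =>
    Finsupp.mapRange (fun r => MvPolynomial.coeff v (E r)) (by simp) c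
  have hp : ∀ v, p v ∈ CotT.relKer P := by
    intro v
    rw [CotT.relKer, LinearMap.mem_ker]
    have : ∀ d : σ →₀ (Q.comp P).toExtension.Ring, CotT.jmap P
        (Finsupp.mapRange (fun r => MvPolynomial.coeff v (E r)) (by simp) d) =
        MvPolynomial.coeff v (E (CotT.jmap (Q.comp P) (supP Q P d))) := by
      intro d
      induction d using Finsupp.induction_linear with
      | zero => simp
      | add a b ha hb =>
        rw [Finsupp.mapRange_add (fun x y => by rw [map_add, MvPolynomial.coeff_add]), map_add, ha,
          hb, map_add, map_add, map_add, MvPolynomial.coeff_add]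
      | single t r =>
        rw [Finsupp.mapRange_single, CotT.jmap_single, supP, Finsupp.lmapDomain_apply,
          Finsupp.mapDomain_single, CotT.jmap_single, map_mul,
          show CotT.rel (Q.comp P) (Sum.inr t) = (leftHom Q P).ringHom (CotT.rel P t) by
            rw [← (leftHom Q P).jmap_relVal]; show _ = CotT.jmap _ (Finsupp.single _ 1)
            rw [CotT.jmap_single, one_mul],
          sumEquiv_left, mul_comm (E r), MvPolynomial.coeff_C_mul, mul_comm]
    rw [this c, hjc, map_zero]
    simp
  refine ⟨c.support.biUnion fun t => (E (c t)).support, fun v => ⟨p v, hp v⟩,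
    fun v => E.symm (MvPolynomial.monomial v 1), ?_⟩
  rw [hc, ← map_sum]
  congr 1
  refine Finsupp.ext fun x => ?_
  have hleft : ∀ (g : σ →₀ P.toExtension.Ring), (leftHom Q P).relModMap g =
      supP Q P (Finsupp.mapRange (leftHom Q P).ringHom (map_zero _) g) := by
    intro g
    induction g using Finsupp.induction_linear with
    | zero => simp
    | add a b ha hb => rw [map_add, ha, hb, Finsupp.mapRange_add (map_add _), map_add]
    | single t r =>
      rw [relModMap_left, Finsupp.mapRange_single, supP, Finsupp.lmapDomain_apply,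
        Finsupp.mapDomain_single]
  simp only [hleft, ← map_smul, ← map_sum]
  congr 1
  refine congrArg _ (Finsupp.ext fun t => E.injective ?_)
  rw [Finsupp.finsetSum_apply, map_sum]
  simp only [Finsupp.smul_apply, smul_eq_mul, Finsupp.mapRange_apply, map_mul, p,
    AlgEquiv.apply_symm_apply, E, sumEquiv_left]
  rw [Finset.sum_congr rfl (g := fun v => MvPolynomial.monomial v (MvPolynomial.coeff v (E (c t))))
    (fun v _ => by rw [mul_comm, MvPolynomial.C_mul_monomial, mul_one])]
  refine (MvPolynomial.as_sum _).trans (Finset.sum_subset ?_ ?_)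
  · intro v hv
    by_cases ht : t ∈ c.support
    · exact Finset.mem_biUnion.2 ⟨t, ht, hv⟩
    · rw [Finsupp.notMem_support_iff.1 ht, map_zero] at hv
      simp at hv
  · intro v _ hv
    rw [MvPolynomial.notMem_support_iff] at hv
    rw [hv, map_zero]

end Groth.Agent.CotLib
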