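import Groth.Agent.CotLib.JZ
import Groth.Agent.CotLib.ConnectAdd

/-!
The Jacobi–Zariski nine-term sequence.
-/

set_option autoImplicit false
set_option backward.isDefEq.respectTransparency false
noncomputable section

universe u v v' w t w' t' m

open TensorProduct

namespace Groth.Agent.CotLib

variable {A : Type u} {B : Type v} {C : Type v'} {ι : Type w} {σ : Type t} {ι' : Type w'} {σ' : Type t'}
variable [CommRing A] [CommRing B] [CommRing C] [Algebra A B] [Algebra B C] [Algebra A C]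
  [IsScalarTower A B C]
variable (Q : Algebra.Presentation B C ι' σ') (P : Algebra.Presentation A B ι σ)
variable (M : Type m) [AddCommGroup M] [Module C M] [Module B M] [IsScalarTower B C M]

lemma L0map_right_inl (i : ι') :
    (rightHom Q P).L0map ((Q.comp P).cotangentSpaceBasis (Sum.inl i)) = Q.cotangentSpaceBasis i := by
  rw [L0basis_apply, L0map_tmul_D, L0basis_apply, ringHom_X]
  rfl

lemma L0map_right_inr (i : ι) :
    (rightHom Q P).L0map ((Q.comp P).cotangentSpaceBasis (Sum.inr i)) = 0 := by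
  rw [L0basis_apply, L0map_tmul_D, ringHom_X]
  show (1 : C) ⊗ₜ KaehlerDifferential.D B Q.toExtension.Ring (algebraMap B Q.toExtension.Ring (P.val i)) = 0
  rw [Derivation.map_algebraMap, TensorProduct.tmul_zero]

lemma L0map_left (i : ι) :
    (leftHom Q P).L0map (P.cotangentSpaceBasis i) = (Q.comp P).cotangentSpaceBasis (Sum.inr i) := by
  rw [L0basis_apply, L0map_tmul_D, L0basis_apply, ringHom_X]
  rfl

lemma L1map_right_inl (s : σ') :
    (rightHom Q P).L1map (CotT.L1basis (Q.comp P) (Sum.inl s)) = CotT.L1basis Q s := by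
  rw [CotT.L1basis_apply, CotT.PresHom.L1map_tmul, relModMap_right_inl, map_one, map_one, CotT.L1basis_apply]

lemma L1map_right_inr (s : σ) :
    (rightHom Q P).L1map (CotT.L1basis (Q.comp P) (Sum.inr s)) = 0 := by
  rw [CotT.L1basis_apply, CotT.PresHom.L1map_tmul, relModMap_right_inr, TensorProduct.tmul_zero]

lemma L1map_left (s : σ) :
    (leftHom Q P).L1map (CotT.L1basis P s) = CotT.L1basis (Q.comp P) (Sum.inr s) := by
  rw [CotT.L1basis_apply, CotT.PresHom.L1map_tmul, relModMap_left, map_one, map_one, CotT.L1basis_apply]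

abbrev R0 := ((rightHom Q P).pull0 M).toAddMonoidHom
abbrev R1 := ((rightHom Q P).pull1 M).toAddMonoidHom
abbrev R2 := ((rightHom Q P).pull2 M).toAddMonoidHom
abbrev S0 := ((leftHom Q P).pull0 M).toAddMonoidHom
abbrev S1 := ((leftHom Q P).pull1 M).toAddMonoidHom
abbrev S2 := ((leftHom Q P).pull2 M).toAddMonoidHom

lemma R0_injective : Function.Injective (R0 Q P M) := fun φ ψ h =>
  Q.cotangentSpaceBasis.ext fun i => by
    have := LinearMap.congr_fun h ((Q.comp P).cotangentSpaceBasis (Sum.inl i))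
    simp only [LinearMap.toAddMonoidHom_coe, CotT.PresHom.pull0_apply, L0map_right_inl] at this
    exact this

lemma R1_injective : Function.Injective (R1 Q P M) := fun φ ψ h =>
  (CotT.L1basis Q).ext fun s => by
    have := LinearMap.congr_fun h (CotT.L1basis (Q.comp P) (Sum.inl s))
    simp only [LinearMap.toAddMonoidHom_coe, CotT.PresHom.pull1_apply, L1map_right_inl] at this
    exact this

lemma R2_injective : Function.Injective (R2 Q P M) := fun φ ψ h =>
  L2_ext Q fun q => by
    obtain ⟨q', rfl⟩ := relKerMap_right_surjective Q P q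
    have := LinearMap.congr_fun h (cls (Q.comp P) q')
    simp only [LinearMap.toAddMonoidHom_coe, CotT.PresHom.pull2_apply, L2map_cls] at this
    exact this

lemma exact0 : Function.Exact (R0 Q P M) (S0 Q P M) := by
  intro ψ
  refine ⟨fun h => ⟨Q.cotangentSpaceBasis.constr C fun i => ψ ((Q.comp P).cotangentSpaceBasis (Sum.inl i)),
    (Q.comp P).cotangentSpaceBasis.ext fun x => ?_⟩, ?_⟩
  · cases x with
    | inl i =>
      show (rightHom Q P).pull0 M _ _ = _
      rw [CotT.PresHom.pull0_apply, L0map_right_inl, Module.Basis.constr_basis]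
    | inr i =>
      show (rightHom Q P).pull0 M _ _ = _
      rw [CotT.PresHom.pull0_apply, L0map_right_inr, map_zero]
      have := LinearMap.congr_fun h (P.cotangentSpaceBasis i)
      simp only [LinearMap.toAddMonoidHom_coe, CotT.PresHom.pull0_apply, L0map_left] at this
      exact this.symm
  · rintro ⟨φ, rfl⟩
    refine P.cotangentSpaceBasis.ext fun i => ?_
    show (leftHom Q P).pull0 M ((rightHom Q P).pull0 M φ) _ = _
    rw [CotT.PresHom.pull0_apply, CotT.PresHom.pull0_apply, L0map_left, L0map_right_inr, map_zero]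
    rfl

lemma exact1 : Function.Exact (R1 Q P M) (S1 Q P M) := by
  intro ψ
  refine ⟨fun h => ⟨(CotT.L1basis Q).constr C fun s => ψ (CotT.L1basis (Q.comp P) (Sum.inl s)),
    (CotT.L1basis (Q.comp P)).ext fun x => ?_⟩, ?_⟩
  · cases x with
    | inl s =>
      show (rightHom Q P).pull1 M _ _ = _
      rw [CotT.PresHom.pull1_apply, L1map_right_inl, Module.Basis.constr_basis]
    | inr s =>
      show (rightHom Q P).pull1 M _ _ = _
      rw [CotT.PresHom.pull1_apply, L1map_right_inr, map_zero]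
      have := LinearMap.congr_fun h (CotT.L1basis P s)
      simp only [LinearMap.toAddMonoidHom_coe, CotT.PresHom.pull1_apply, L1map_left] at this
      exact this.symm
  · rintro ⟨φ, rfl⟩
    refine (CotT.L1basis P).ext fun s => ?_
    show (leftHom Q P).pull1 M ((rightHom Q P).pull1 M φ) _ = _
    rw [CotT.PresHom.pull1_apply, CotT.PresHom.pull1_apply, L1map_left, L1map_right_inr, map_zero]
    rfl

lemma cls_smul {A B : Type*} {ι σ : Type*} [CommRing A] [CommRing B] [Algebra A B]
    (P : Algebra.Presentation A B ι σ) (r : P.toExtension.Ring) (q : CotT.relKer P) :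
    cls P (r • q) = algebraMap P.toExtension.Ring B r • cls P q := by
  rw [cls, cls, TensorProduct.tmul_smul, ← algebraMap_smul B r, Submodule.Quotient.mk_smul]

lemma cls_add {A B : Type*} {ι σ : Type*} [CommRing A] [CommRing B] [Algebra A B]
    (P : Algebra.Presentation A B ι σ) (q q' : CotT.relKer P) :
    cls P (q + q') = cls P q + cls P q' := by
  rw [cls, cls, cls, TensorProduct.tmul_add, Submodule.Quotient.mk_add]

lemma cls_sum {A B : Type*} {ι σ γ : Type*} [CommRing A] [CommRing B] [Algebra A B]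
    (P : Algebra.Presentation A B ι σ) (S : Finset γ) (q : γ → CotT.relKer P) :
    cls P (∑ i ∈ S, q i) = ∑ i ∈ S, cls P (q i) :=
  map_sum (AddMonoidHom.mk' (cls P) (cls_add P)) q S

lemma exists_cls' {A B : Type*} {ι σ : Type*} [CommRing A] [CommRing B] [Algebra A B]
    (P : Algebra.Presentation A B ι σ) (z : CotT.L2 P) : ∃ q, cls P q = z := by
  induction z using Submodule.Quotient.induction_on with
  | H z =>
    induction z using TensorProduct.induction_on with
    | zero => exact ⟨0, by rw [cls, TensorProduct.tmul_zero]⟩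
    | add x y hx hy =>
      obtain ⟨a, ha⟩ := hx
      obtain ⟨b, hb⟩ := hy
      exact ⟨a + b, by rw [cls_add, ha, hb, Submodule.Quotient.mk_add]⟩
    | tmul b q =>
      obtain ⟨r, rfl⟩ := P.toExtension.algebraMap_surjective b
      exact ⟨r • q, by rw [cls_smul, cls_smul_tmul]⟩

/-- `B ⊗ Q → F/F₀`, used to read off `Q/F₀` from `L₂`. -/
lemma mk_eq_zero_of_cls_eq_zero {A B : Type*} {ι σ : Type*} [CommRing A] [CommRing B] [Algebra A B]
    (P : Algebra.Presentation A B ι σ) {q : CotT.relKer P} (h : cls P q = 0) :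
    (q : CotT.relMod P) ∈ CotT.trivRel P := by
  classical
  have hsurj : Function.Surjective (algebraMap P.toExtension.Ring B) := P.toExtension.algebraMap_surjective
  let rep : B → P.toExtension.Ring := Function.surjInv hsurj
  have hwd : ∀ (r r' : P.toExtension.Ring) (p : CotT.relKer P),
      algebraMap P.toExtension.Ring B r = algebraMap P.toExtension.Ring B r' →
      r • mk P (p : CotT.relMod P) = r' • mk P (p : CotT.relMod P) := by
    intro r r' p hr
    have h1 : r - r' ∈ LinearMap.range (CotT.jmap P) := by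
      rw [CotT.range_jmap]
      show algebraMap P.toExtension.Ring B (r - r') = 0
      rw [map_sub, hr, sub_self]
    obtain ⟨y, hy⟩ := h1
    rw [← sub_eq_zero, ← sub_smul, ← hy, ← jbar_mk, jbar_smul_comm, jbar_mk,
      show CotT.jmap P (p : CotT.relMod P) = 0 from p.2, zero_smul]
  have hrep : ∀ b, algebraMap P.toExtension.Ring B (rep b) = b := Function.surjInv_eq hsurj
  let f : B →+ CotT.relKer P →+ DD P := AddMonoidHom.mk'
    (fun b => AddMonoidHom.mk' (fun p => rep b • mk P (p : CotT.relMod P))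
      (fun p p' => by rw [Submodule.coe_add, map_add, smul_add]))
    (fun b b' => AddMonoidHom.ext fun p => by
      show rep (b + b') • mk P (p : CotT.relMod P) = rep b • mk P (p : CotT.relMod P) + rep b' • mk P (p : CotT.relMod P)
      rw [← add_smul]
      exact hwd _ _ _ (by rw [map_add, hrep, hrep, hrep]))
  have hbil : ∀ (r : P.toExtension.Ring) (b : B) (p : CotT.relKer P), f (r • b) p = f b (r • p) := by
    intro r b p
    show rep (r • b) • mk P (p : CotT.relMod P) = rep b • mk P ((r • p : CotT.relKer P) : CotT.relMod P)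
    rw [Submodule.coe_smul, map_smul, smul_smul]
    exact hwd _ _ _ (by rw [map_mul, hrep, hrep, Algebra.smul_def, mul_comm])
  let F : B ⊗[P.toExtension.Ring] (CotT.relKer P) →+ DD P := TensorProduct.liftAddHom f hbil
  have h0 : F ((1 : B) ⊗ₜ q) = 0 := by
    obtain ⟨z, hz⟩ := (Submodule.Quotient.mk_eq_zero _).1 h
    rw [← hz]
    clear hz
    induction z using TensorProduct.induction_on with
    | zero => rw [map_zero, map_zero]
    | add x y hx hy => rw [map_add, map_add, hx, hy, add_zero]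
    | tmul b k =>
      rw [LinearMap.baseChange_tmul]
      show rep b • mk P ((k : CotT.relKer P) : CotT.relMod P) = 0
      have hk : ((k : CotT.relKer P) : CotT.relMod P) ∈ CotT.trivRel P := k.2
      rw [show mk P ((k : CotT.relKer P) : CotT.relMod P) = 0 by
        rw [← map_zero (mk P), mk_eq_mk, sub_zero]; exact hk, smul_zero]
  have h1 : rep 1 • mk P (q : CotT.relMod P) = 0 := h0
  rw [hwd (rep 1) 1 q (by rw [hrep, map_one]), one_smul, ← map_zero (mk P), mk_eq_mk, sub_zero] at h1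
  exact h1

lemma L2map_left_right (x : CotT.L2 P) :
    (rightHom Q P).L2map ((leftHom Q P).L2map x) = 0 := by
  obtain ⟨q, rfl⟩ := exists_cls' P x
  rw [L2map_cls, L2map_cls]
  have : (rightHom Q P).relKerMap ((leftHom Q P).relKerMap q) = 0 := by
    refine Subtype.ext ?_
    show (rightHom Q P).relModMap ((leftHom Q P).relModMap (q : CotT.relMod P)) = 0
    induction (q : CotT.relMod P) using Finsupp.induction_linear with
    | zero => simp
    | add a b ha hb => rw [map_add, map_add, ha, hb, add_zero]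
    | single t r => rw [relModMap_left, relModMap_right_inr]
  rw [this, cls, TensorProduct.tmul_zero, Submodule.Quotient.mk_zero]

lemma exact2 : Function.Exact (R2 Q P M) (S2 Q P M) := by
  intro ξ
  refine ⟨fun h => ?_, ?_⟩
  · have hker : ∀ z, (rightHom Q P).L2map z = 0 → ξ z = 0 := by
      intro z hz
      obtain ⟨q, rfl⟩ := exists_cls' (Q.comp P) z
      rw [L2map_cls] at hz
      obtain ⟨S, p, r, hq⟩ := exists_decomp Q P q (mk_eq_zero_of_cls_eq_zero Q hz)
      rw [cls_congr (Q.comp P) (y := ∑ v ∈ S, r v • (leftHom Q P).relKerMap (p v))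
        (by rw [hq, Submodule.coe_sum, map_sum]; exact Finset.sum_congr rfl fun v _ => rfl),
        cls_sum, map_sum]
      refine Finset.sum_eq_zero fun v _ => ?_
      rw [cls_smul, map_smul, ← L2map_cls,
        show ξ ((leftHom Q P).L2map (cls P (p v))) = 0 from LinearMap.congr_fun h (cls P (p v)), smul_zero]
    have hs : Function.Surjective (rightHom Q P).L2map := fun y => by
      obtain ⟨q, rfl⟩ := exists_cls' Q y
      obtain ⟨q', rfl⟩ := relKerMap_right_surjective Q P q
      exact ⟨cls _ q', L2map_cls _ q'⟩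
    have hwd : ∀ a b, (rightHom Q P).L2map a = (rightHom Q P).L2map b → ξ a = ξ b := fun a b hab => by
      rw [← sub_eq_zero, ← map_sub]; exact hker _ (by rw [map_sub, hab, sub_self])
    have hsi := Function.surjInv_eq hs
    refine ⟨{ toFun := fun y => ξ (Function.surjInv hs y), map_add' := fun a b => ?_,
              map_smul' := fun c a => ?_ }, LinearMap.ext fun z => ?_⟩
    · rw [← map_add]; exact hwd _ _ (by rw [map_add, hsi, hsi, hsi])
    · rw [RingHom.id_apply, ← map_smul]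
      exact hwd _ _ (by rw [LinearMap.map_smulₛₗ, hsi, hsi]; rfl)
    · exact hwd _ _ (hsi _)
  · rintro ⟨φ, rfl⟩
    refine LinearMap.ext fun x => ?_
    show φ ((rightHom Q P).L2map ((leftHom Q P).L2map x)) = 0
    rw [L2map_left_right, map_zero]

lemma S0_surjective : Function.Surjective (S0 Q P M) := by
  intro φ
  refine ⟨(Q.comp P).cotangentSpaceBasis.constr C
    (Sum.elim (fun _ => 0) fun i => φ (P.cotangentSpaceBasis i)), P.cotangentSpaceBasis.ext fun i => ?_⟩
  show (leftHom Q P).pull0 M _ _ = _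
  rw [CotT.PresHom.pull0_apply, L0map_left, Module.Basis.constr_basis, Sum.elim_inr]

lemma S1_surjective : Function.Surjective (S1 Q P M) := by
  intro φ
  refine ⟨(CotT.L1basis (Q.comp P)).constr C
    (Sum.elim (fun _ => 0) fun s => φ (CotT.L1basis P s)), (CotT.L1basis P).ext fun s => ?_⟩
  show (leftHom Q P).pull1 M _ _ = _
  rw [CotT.PresHom.pull1_apply, L1map_left, Module.Basis.constr_basis, Sum.elim_inr]

/-- The nine-term sequence for the composite presentation. -/
theorem jz :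
    Function.Injective ((rightHom Q P).T0pull M) ∧
    Function.Exact ((rightHom Q P).T0pull M) ((leftHom Q P).T0pull M) ∧
    Function.Exact ((rightHom Q P).T1pull M) ((leftHom Q P).T1pull M) ∧
    Function.Exact ((rightHom Q P).T2pull M) ((leftHom Q P).T2pull M) ∧
    ∃ (δ₀ : CotT.T0 P M →+ CotT.T1 Q M) (δ₁ : CotT.T1 P M →+ CotT.T2 Q M),
      Function.Exact ((leftHom Q P).T0pull M) δ₀ ∧ Function.Exact δ₀ ((rightHom Q P).T1pull M) ∧
      Function.Exact ((leftHom Q P).T1pull M) δ₁ ∧ Function.Exact δ₁ ((rightHom Q P).T2pull M) := by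
  have i₀ := R0_injective Q P M
  have i₁ := R1_injective Q P M
  have i₂ := R2_injective Q P M
  have e₀ := exact0 Q P M
  have e₁ := exact1 Q P M
  have e₂ := exact2 Q P M
  refine ⟨fun x y h => Subtype.ext (i₀ (congrArg Subtype.val h)),
    fun x => ⟨fun h => ?_, ?_⟩, fun x => ⟨fun h => ?_, ?_⟩, fun x => ⟨fun h => ?_, ?_⟩, ?_⟩
  · obtain ⟨y, hy⟩ := (e₀ x.1).1 (congrArg Subtype.val h)
    refine ⟨⟨y, i₁ ?_⟩, Subtype.ext hy⟩
    show (rightHom Q P).pull1 M (CotT.d1Star Q M y) = (rightHom Q P).pull1 M 0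
    rw [CotT.PresHom.pull1_d1Star, map_zero, show (rightHom Q P).pull0 M y = x.1 from hy]
    exact x.2
  · rintro ⟨y, rfl⟩
    exact Subtype.ext ((e₀ _).2 ⟨y.1, rfl⟩)
  · obtain ⟨c, rfl⟩ := Submodule.Quotient.mk_surjective _ x
    rw [T1pull_mk] at h
    obtain ⟨ψ, hψ⟩ := (Submodule.Quotient.mk_eq_zero _).1 h
    obtain ⟨ψ', rfl⟩ := S0_surjective Q P M ψ
    obtain ⟨y, hy⟩ := (e₁ (c.1 - CotT.d1Star (Q.comp P) M ψ')).1 (by
      rw [map_sub]
      refine sub_eq_zero.2 ?_
      show (leftHom Q P).pull1 M c.1 = (leftHom Q P).pull1 M (CotT.d1Star (Q.comp P) M ψ')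
      rw [CotT.PresHom.pull1_d1Star]
      exact hψ.symm)
    have hyc : y ∈ CotT.cocycles1 Q M := i₂ (by
      show (rightHom Q P).pull2 M (CotT.d2Star Q M y) = (rightHom Q P).pull2 M 0
      rw [CotT.PresHom.pull2_d2Star, map_zero,
        show (rightHom Q P).pull1 M y = c.1 - CotT.d1Star (Q.comp P) M ψ' from hy, map_sub,
        show CotT.d2Star (Q.comp P) M (CotT.d1Star (Q.comp P) M ψ') = 0 from
          LinearMap.congr_fun (CotT.d2Star_comp_d1Star _ M) ψ', sub_zero]
      exact c.2)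
    refine ⟨Submodule.Quotient.mk ⟨y, hyc⟩, ?_⟩
    rw [T1pull_mk, Submodule.Quotient.eq]
    refine ⟨-ψ', ?_⟩
    show CotT.d1Star (Q.comp P) M (-ψ') = (rightHom Q P).pull1 M y - c.1
    rw [show (rightHom Q P).pull1 M y = c.1 - CotT.d1Star (Q.comp P) M ψ' from hy, map_neg]
    abel
  · rintro ⟨y, rfl⟩
    obtain ⟨c, rfl⟩ := Submodule.Quotient.mk_surjective _ y
    rw [T1pull_mk, T1pull_mk, Submodule.Quotient.mk_eq_zero]
    exact ⟨0, by rw [map_zero]; exact ((e₁ _).2 ⟨c.1, rfl⟩).symm⟩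
  · obtain ⟨c, rfl⟩ := Submodule.Quotient.mk_surjective _ x
    rw [T2pull_mk] at h
    obtain ⟨ψ, hψ⟩ := (Submodule.Quotient.mk_eq_zero _).1 h
    obtain ⟨ψ', rfl⟩ := S1_surjective Q P M ψ
    obtain ⟨y, hy⟩ := (e₂ (c - CotT.d2Star (Q.comp P) M ψ')).1 (by
      rw [map_sub]
      refine sub_eq_zero.2 ?_
      show (leftHom Q P).pull2 M c = (leftHom Q P).pull2 M (CotT.d2Star (Q.comp P) M ψ')
      rw [CotT.PresHom.pull2_d2Star]
      exact hψ.symm)
    refine ⟨Submodule.Quotient.mk y, ?_⟩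
    rw [T2pull_mk, Submodule.Quotient.eq]
    refine ⟨-ψ', ?_⟩
    rw [show (rightHom Q P).pull2 M y = c - CotT.d2Star (Q.comp P) M ψ' from hy, map_neg]
    abel
  · rintro ⟨y, rfl⟩
    obtain ⟨c, rfl⟩ := Submodule.Quotient.mk_surjective _ y
    rw [T2pull_mk, T2pull_mk, Submodule.Quotient.mk_eq_zero]
    exact ⟨0, by rw [map_zero]; exact ((e₂ _).2 ⟨c, rfl⟩).symm⟩
  · obtain ⟨δ₀', hk₀, hr₀⟩ := exists_connect_add (R0 Q P M) (S0 Q P M) (R1 Q P M) (S1 Q P M)
      (CotT.d1Star Q M).toAddMonoidHom (CotT.d1Star (Q.comp P) M).toAddMonoidHom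
      (CotT.d1Star P M).toAddMonoidHom
      (LinearMap.ker (CotT.d1Star P M)).subtype.toAddMonoidHom
      (LinearMap.range (CotT.d1Star Q M)).mkQ.toAddMonoidHom
      (S0_surjective Q P M) e₀ i₁ e₁
      (fun x => ((rightHom Q P).pull1_d1Star M x).symm)
      (fun x => ((leftHom Q P).pull1_d1Star M x).symm)
      (fun x => x.2) (fun z => Submodule.Quotient.mk_eq_zero _)
    obtain ⟨δ₁', hk₁, hr₁⟩ := exists_connect_add (R1 Q P M) (S1 Q P M) (R2 Q P M) (S2 Q P M)
      (CotT.d2Star Q M).toAddMonoidHom (CotT.d2Star (Q.comp P) M).toAddMonoidHom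
      (CotT.d2Star P M).toAddMonoidHom
      (CotT.cocycles1 P M).subtype.toAddMonoidHom
      (LinearMap.range (CotT.d2Star Q M)).mkQ.toAddMonoidHom
      (S1_surjective Q P M) e₁ i₂ e₂
      (fun x => ((rightHom Q P).pull2_d2Star M x).symm)
      (fun x => ((leftHom Q P).pull2_d2Star M x).symm)
      (fun x => x.2) (fun z => Submodule.Quotient.mk_eq_zero _)
    let incl : CotT.T1 Q M →+ (CotT.L1 Q →ₗ[C] M) ⧸ LinearMap.range (CotT.d1Star Q M) :=
      (Submodule.mapQ _ _ (CotT.cocycles1 Q M).subtype le_rfl).toAddMonoidHom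
    have hincl : Function.Injective incl := by
      rw [injective_iff_map_eq_zero]
      intro x hx
      obtain ⟨c, rfl⟩ := Submodule.Quotient.mk_surjective _ x
      exact (Submodule.Quotient.mk_eq_zero _).2 (Submodule.mem_comap.2
        ((Submodule.Quotient.mk_eq_zero _).1 hx))
    have hmem : ∀ x, ∃ y, incl y = δ₀' x := by
      intro x
      obtain ⟨z, hz⟩ := Submodule.Quotient.mk_surjective _ (δ₀' x)
      obtain ⟨y, hy, -⟩ := (hr₀ z).1 ⟨x, hz.symm⟩
      refine ⟨Submodule.Quotient.mk ⟨z, i₂ ?_⟩, hz⟩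
      show (rightHom Q P).pull2 M (CotT.d2Star Q M z) = (rightHom Q P).pull2 M 0
      rw [CotT.PresHom.pull2_d2Star, map_zero,
        show (rightHom Q P).pull1 M z = CotT.d1Star (Q.comp P) M y from hy]
      exact LinearMap.congr_fun (CotT.d2Star_comp_d1Star _ M) y
    choose D₀ hD₀ using hmem
    let δ₀ : CotT.T0 P M →+ CotT.T1 Q M :=
      AddMonoidHom.mk' D₀ fun a b => hincl (by rw [map_add, hD₀, hD₀, hD₀, map_add])
    have hcob : ∀ c : CotT.cocycles1 P M, c ∈ CotT.coboundaries1 P M → δ₁' c = 0 := by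
      rintro c ⟨ψ, hψ⟩
      obtain ⟨ψ', rfl⟩ := S0_surjective Q P M ψ
      exact (hk₁ c).2 ⟨CotT.d1Star (Q.comp P) M ψ',
        LinearMap.congr_fun (CotT.d2Star_comp_d1Star _ M) ψ',
        ((leftHom Q P).pull1_d1Star M ψ').trans hψ⟩
    let δ₁ : CotT.T1 P M →+ CotT.T2 Q M :=
      QuotientAddGroup.lift (CotT.coboundaries1 P M).toAddSubgroup δ₁' hcob
    refine ⟨δ₀, δ₁, fun x => ?_, fun x => ?_, fun x => ?_, fun x => ?_⟩
    · rw [← hincl.eq_iff, map_zero, show incl (δ₀ x) = δ₀' x from hD₀ x, hk₀]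
      exact ⟨fun ⟨y, hy, hyx⟩ => ⟨⟨y, hy⟩, Subtype.ext hyx⟩,
        fun ⟨y, hy⟩ => ⟨y.1, y.2, congrArg Subtype.val hy⟩⟩
    · obtain ⟨c, rfl⟩ := Submodule.Quotient.mk_surjective _ x
      rw [T1pull_mk, Submodule.Quotient.mk_eq_zero]
      refine ⟨fun ⟨ψ, hψ⟩ => ?_, fun ⟨y, hy⟩ => ?_⟩
      · have hdP : CotT.d1Star P M (S0 Q P M ψ) = 0 := by
          show CotT.d1Star P M ((leftHom Q P).pull0 M ψ) = 0
          rw [← CotT.PresHom.pull1_d1Star,
            show CotT.d1Star (Q.comp P) M ψ = (rightHom Q P).pull1 M c.1 from hψ]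
          exact (e₁ _).2 ⟨c.1, rfl⟩
        obtain ⟨y, hy⟩ := (hr₀ c.1).2 ⟨ψ, hψ.symm, ⟨S0 Q P M ψ, hdP⟩, rfl⟩
        exact ⟨y, hincl ((hD₀ y).trans hy)⟩
      · obtain ⟨ψ, hψ, -⟩ := (hr₀ c.1).1 ⟨y, by rw [← hD₀, show D₀ y = _ from hy]; rfl⟩
        exact ⟨ψ, hψ.symm⟩
    · obtain ⟨c, rfl⟩ := Submodule.Quotient.mk_surjective _ x
      show δ₁' c = 0 ↔ _
      rw [hk₁]
      refine ⟨fun ⟨y, hy, hyc⟩ => ⟨Submodule.Quotient.mk ⟨y, hy⟩, ?_⟩, fun ⟨y, hy⟩ => ?_⟩
      · rw [T1pull_mk]; exact congrArg _ (Subtype.ext hyc)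
      · obtain ⟨e, rfl⟩ := Submodule.Quotient.mk_surjective _ y
        rw [T1pull_mk, Submodule.Quotient.eq] at hy
        obtain ⟨ψ, hψ⟩ := hy
        obtain ⟨ψ', rfl⟩ := S0_surjective Q P M ψ
        refine ⟨e.1 - CotT.d1Star (Q.comp P) M ψ', ?_, ?_⟩
        · show CotT.d2Star (Q.comp P) M (e.1 - CotT.d1Star (Q.comp P) M ψ') = 0
          rw [map_sub, show CotT.d2Star (Q.comp P) M (CotT.d1Star (Q.comp P) M ψ') = 0 from
              LinearMap.congr_fun (CotT.d2Star_comp_d1Star _ M) ψ', sub_zero]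
          exact e.2
        · show (leftHom Q P).pull1 M (e.1 - CotT.d1Star (Q.comp P) M ψ') = c.1
          have h' : CotT.d1Star P M ((leftHom Q P).pull0 M ψ') = (leftHom Q P).pull1 M e.1 - c.1 := hψ
          rw [map_sub, CotT.PresHom.pull1_d1Star, h', sub_sub_cancel]
    · obtain ⟨z, rfl⟩ := Submodule.Quotient.mk_surjective _ x
      rw [T2pull_mk, Submodule.Quotient.mk_eq_zero]
      refine ⟨fun ⟨ψ, hψ⟩ => ?_, fun ⟨y, hy⟩ => ?_⟩
      · have hdP : CotT.d2Star P M (S1 Q P M ψ) = 0 := by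
          show CotT.d2Star P M ((leftHom Q P).pull1 M ψ) = 0
          rw [← CotT.PresHom.pull2_d2Star,
            show CotT.d2Star (Q.comp P) M ψ = (rightHom Q P).pull2 M z from hψ]
          exact (e₂ _).2 ⟨z, rfl⟩
        obtain ⟨y, hy⟩ := (hr₁ z).2 ⟨ψ, hψ.symm, ⟨S1 Q P M ψ, hdP⟩, rfl⟩
        exact ⟨Submodule.Quotient.mk y, hy⟩
      · obtain ⟨c, rfl⟩ := Submodule.Quotient.mk_surjective _ y
        obtain ⟨ψ, hψ, -⟩ := (hr₁ z).1 ⟨c, hy⟩
        exact ⟨ψ, hψ.symm⟩

end Groth.Agent.CotLib
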