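import Groth.Agent.CotLib.Connect
import Groth.Prelude.Def_CotT

/-!
The long exact sequence of `Tⁱ` of a short exact sequence of modules.
-/

set_option autoImplicit false
noncomputable section

universe u v w t m m' m''

namespace Groth.Agent.CotLib

variable {A : Type u} {B : Type v} {ι : Type w} {σ : Type t}
variable [CommRing A] [CommRing B] [Algebra A B] (P : Algebra.Presentation A B ι σ)
variable {M' : Type m'} {M : Type m} {M'' : Type m''}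
variable [AddCommGroup M'] [Module B M'] [AddCommGroup M] [Module B M] [AddCommGroup M''] [Module B M'']
variable {f : M' →ₗ[B] M} {g : M →ₗ[B] M''}

section Hom

variable {X : Type*} [AddCommGroup X] [Module B X]

/-- Postcomposition. -/
abbrev post {N : Type*} {N' : Type*} [AddCommGroup N] [Module B N] [AddCommGroup N'] [Module B N']
    (X : Type*) [AddCommGroup X] [Module B X] (h : N →ₗ[B] N') : (X →ₗ[B] N) →ₗ[B] (X →ₗ[B] N') :=
  LinearMap.llcomp B X N N' h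

lemma hom_injective (hf : Function.Injective f) :
    Function.Injective (post X f) :=
  fun _ _ h => LinearMap.ext fun x => hf (LinearMap.congr_fun h x)

lemma hom_exact (hf : Function.Injective f) (hfg : Function.Exact f g) :
    Function.Exact (post X f) (post X g) := by
  intro φ
  refine ⟨fun h => ?_, ?_⟩
  · refine ⟨(LinearEquiv.ofInjective f hf).symm.toLinearMap ∘ₗ φ.codRestrict (LinearMap.range f)
      (fun x => (hfg (φ x)).1 (LinearMap.congr_fun h x)), LinearMap.ext fun x => ?_⟩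
    show f ((LinearEquiv.ofInjective f hf).symm _) = φ x
    rw [← LinearEquiv.ofInjective_apply (h := hf), LinearEquiv.apply_symm_apply]
    rfl
  · rintro ⟨φ', rfl⟩
    exact LinearMap.ext fun x => hfg.apply_apply_eq_zero _

lemma hom_surjective {κ : Type*} (b : Module.Basis κ B X) (hg : Function.Surjective g) :
    Function.Surjective (post X g) := fun φ => by
  choose s hs using hg
  refine ⟨b.constr B fun k => s (φ (b k)), b.ext fun k => ?_⟩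
  show g _ = φ (b k)
  rw [Module.Basis.constr_basis, hs]

end Hom

theorem les (hf : Function.Injective f) (hg : Function.Surjective g) (hfg : Function.Exact f g) :
    Function.Injective (CotT.T0map P f) ∧ Function.Exact (CotT.T0map P f) (CotT.T0map P g) ∧
      Function.Exact (CotT.T1map P f) (CotT.T1map P g) ∧ Function.Exact (CotT.T2map P f) (CotT.T2map P g) ∧
      ∃ (δ₀ : CotT.T0 P M'' →ₗ[B] CotT.T1 P M') (δ₁ : CotT.T1 P M'' →ₗ[B] CotT.T2 P M'),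
        Function.Exact (CotT.T0map P g) δ₀ ∧ Function.Exact δ₀ (CotT.T1map P f) ∧
        Function.Exact (CotT.T1map P g) δ₁ ∧ Function.Exact δ₁ (CotT.T2map P f) := by
  let b₀ := P.cotangentSpaceBasis
  let b₁ := CotT.L1basis P
  have e₀ := hom_exact (X := CotT.L0 P) hf hfg
  have e₁ := hom_exact (X := CotT.L1 P) hf hfg
  have e₂ := hom_exact (X := CotT.L2 P) hf hfg
  have i₁ := hom_injective (X := CotT.L1 P) (M := M) hf
  have i₂ := hom_injective (X := CotT.L2 P) (M := M) hf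
  refine ⟨fun x y h => Subtype.ext (hom_injective (M := M) hf (congrArg Subtype.val h)),
    fun x => ⟨fun h => ?_, ?_⟩, fun x => ⟨fun h => ?_, ?_⟩, fun x => ⟨fun h => ?_, ?_⟩, ?_⟩
  · obtain ⟨y, hy⟩ := (e₀ x.1).1 (congrArg Subtype.val h)
    exact ⟨⟨y, i₁ (show f ∘ₗ (y ∘ₗ CotT.d1 P) = f ∘ₗ 0 by
      rw [LinearMap.comp_zero, ← LinearMap.comp_assoc, show f ∘ₗ y = x.1 from hy]; exact x.2)⟩,
      Subtype.ext hy⟩
  · rintro ⟨y, rfl⟩
    exact Subtype.ext ((e₀ (f ∘ₗ y.1)).2 ⟨y.1, rfl⟩)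
  · obtain ⟨c, rfl⟩ := Submodule.Quotient.mk_surjective _ x
    obtain ⟨ψ, hψ⟩ := (Submodule.Quotient.mk_eq_zero _).1 h
    obtain ⟨ψ', rfl⟩ := hom_surjective b₀ hg ψ
    obtain ⟨y, hy⟩ := (e₁ (c.1 - ψ' ∘ₗ CotT.d1 P)).1 (by
      rw [map_sub]
      exact sub_eq_zero.2 (show g ∘ₗ c.1 = (g ∘ₗ ψ') ∘ₗ CotT.d1 P from hψ.symm))
    have hyc : y ∈ CotT.cocycles1 P M' := i₂ (show f ∘ₗ (y ∘ₗ CotT.d2 P) = f ∘ₗ 0 by
      rw [LinearMap.comp_zero, ← LinearMap.comp_assoc, show f ∘ₗ y = c.1 - ψ' ∘ₗ CotT.d1 P from hy,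
        LinearMap.sub_comp, LinearMap.comp_assoc, CotT.d1_comp_d2, LinearMap.comp_zero, sub_zero]
      exact c.2)
    refine ⟨Submodule.Quotient.mk ⟨y, hyc⟩, (Submodule.Quotient.eq _).2 ⟨-ψ', ?_⟩⟩
    show (-ψ') ∘ₗ CotT.d1 P = f ∘ₗ y - c.1
    rw [show f ∘ₗ y = c.1 - ψ' ∘ₗ CotT.d1 P from hy, LinearMap.neg_comp]
    abel
  · rintro ⟨y, rfl⟩
    obtain ⟨c, rfl⟩ := Submodule.Quotient.mk_surjective _ y
    exact (Submodule.Quotient.mk_eq_zero _).2 ⟨0, by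
      rw [map_zero]; exact ((e₁ _).2 ⟨c.1, rfl⟩).symm⟩
  · obtain ⟨c, rfl⟩ := Submodule.Quotient.mk_surjective _ x
    obtain ⟨ψ, hψ⟩ := (Submodule.Quotient.mk_eq_zero _).1 h
    obtain ⟨ψ', rfl⟩ := hom_surjective b₁ hg ψ
    obtain ⟨y, hy⟩ := (e₂ (c - ψ' ∘ₗ CotT.d2 P)).1 (by
      rw [map_sub]
      exact sub_eq_zero.2 (show g ∘ₗ c = (g ∘ₗ ψ') ∘ₗ CotT.d2 P from hψ.symm))
    refine ⟨Submodule.Quotient.mk y, (Submodule.Quotient.eq _).2 ⟨-ψ', ?_⟩⟩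
    show (-ψ') ∘ₗ CotT.d2 P = f ∘ₗ y - c
    rw [show f ∘ₗ y = c - ψ' ∘ₗ CotT.d2 P from hy, LinearMap.neg_comp]
    abel
  · rintro ⟨y, rfl⟩
    obtain ⟨c, rfl⟩ := Submodule.Quotient.mk_surjective _ y
    exact (Submodule.Quotient.mk_eq_zero _).2 ⟨0, by
      rw [map_zero]; exact ((e₂ _).2 ⟨c, rfl⟩).symm⟩
  · obtain ⟨D₀, hD₀, hk₀, hr₀⟩ := exists_connect (post (CotT.L0 P) f)
      (post _ g) (post (CotT.L1 P) f)
      (post _ g) (CotT.d1Star P M') (CotT.d1Star P M) (CotT.d1Star P M'')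
      (hom_surjective b₀ hg) e₀ i₁ e₁ (fun _ => rfl) (fun _ => rfl)
    obtain ⟨D₁, hD₁, hk₁, hr₁⟩ := exists_connect (post (CotT.L1 P) f)
      (post _ g) (post (CotT.L2 P) f)
      (post _ g) (CotT.d2Star P M') (CotT.d2Star P M) (CotT.d2Star P M'')
      (hom_surjective b₁ hg) e₁ i₂ e₂ (fun _ => rfl) (fun _ => rfl)
    let incl : CotT.T1 P M' →ₗ[B] (CotT.L1 P →ₗ[B] M') ⧸ LinearMap.range (CotT.d1Star P M') :=
      Submodule.mapQ _ _ (CotT.cocycles1 P M').subtype le_rfl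
    have hincl : Function.Injective incl := by
      rw [injective_iff_map_eq_zero]
      intro x hx
      obtain ⟨c, rfl⟩ := Submodule.Quotient.mk_surjective _ x
      exact (Submodule.Quotient.mk_eq_zero _).2 (Submodule.mem_comap.2
        ((Submodule.Quotient.mk_eq_zero _).1 hx))
    have hmem : ∀ x, D₀ x ∈ LinearMap.range incl := by
      intro x
      obtain ⟨z, hz⟩ := Submodule.Quotient.mk_surjective _ (D₀ x)
      obtain ⟨y, hy⟩ := (hr₀ z).1 ⟨x, hz.symm⟩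
      refine ⟨Submodule.Quotient.mk ⟨z, i₂ ?_⟩, hz⟩
      show f ∘ₗ (z ∘ₗ CotT.d2 P) = f ∘ₗ 0
      rw [LinearMap.comp_zero, ← LinearMap.comp_assoc, show f ∘ₗ z = y ∘ₗ CotT.d1 P from hy,
        LinearMap.comp_assoc, CotT.d1_comp_d2, LinearMap.comp_zero]
    let δ₀ : CotT.T0 P M'' →ₗ[B] CotT.T1 P M' :=
      (LinearEquiv.ofInjective incl hincl).symm.toLinearMap ∘ₗ D₀.codRestrict _ hmem
    have hδ₀ : ∀ x, incl (δ₀ x) = D₀ x := fun x => by
      show incl ((LinearEquiv.ofInjective incl hincl).symm _) = D₀ x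
      rw [← LinearEquiv.ofInjective_apply (h := hincl), LinearEquiv.apply_symm_apply]
      rfl
    have hcob : CotT.coboundaries1 P M'' ≤ LinearMap.ker D₁ := by
      rintro c ⟨ψ, hψ⟩
      obtain ⟨ψ', rfl⟩ := hom_surjective b₀ hg ψ
      exact (hk₁ c).2 ⟨ψ' ∘ₗ CotT.d1 P, by
        rw [CotT.d2Star_apply, LinearMap.comp_assoc, CotT.d1_comp_d2, LinearMap.comp_zero],
        hψ⟩
    refine ⟨δ₀, Submodule.liftQ _ D₁ hcob, fun x => ?_, fun x => ?_, fun x => ?_, fun x => ?_⟩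
    · rw [← hincl.eq_iff, hδ₀, map_zero, hk₀]
      exact ⟨fun ⟨y, hy, hyx⟩ => ⟨⟨y, hy⟩, Subtype.ext hyx⟩,
        fun ⟨y, hy⟩ => ⟨y.1, y.2, congrArg Subtype.val hy⟩⟩
    · obtain ⟨c, rfl⟩ := Submodule.Quotient.mk_surjective _ x
      refine ⟨fun h => ?_, fun ⟨y, hy⟩ => ?_⟩
      · obtain ⟨ψ, hψ⟩ := (Submodule.Quotient.mk_eq_zero _).1 h
        obtain ⟨y, hy⟩ := (hr₀ c.1).2 ⟨ψ, hψ.symm⟩
        exact ⟨y, hincl ((hδ₀ y).trans hy)⟩
      · obtain ⟨ψ, hψ⟩ := (hr₀ c.1).1 ⟨y, by rw [← hδ₀, hy]; rfl⟩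
        exact (Submodule.Quotient.mk_eq_zero _).2 ⟨ψ, hψ.symm⟩
    · obtain ⟨c, rfl⟩ := Submodule.Quotient.mk_surjective _ x
      rw [Submodule.liftQ_apply, hk₁]
      refine ⟨fun ⟨y, hy, hyc⟩ => ⟨Submodule.Quotient.mk ⟨y, hy⟩, congrArg Submodule.Quotient.mk
        (Subtype.ext hyc)⟩, fun ⟨y, hy⟩ => ?_⟩
      obtain ⟨e, rfl⟩ := Submodule.Quotient.mk_surjective _ y
      obtain ⟨ψ, hψ⟩ := (Submodule.Quotient.eq _).1 hy
      obtain ⟨ψ', rfl⟩ := hom_surjective b₀ hg ψ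
      refine ⟨e.1 - ψ' ∘ₗ CotT.d1 P, ?_, ?_⟩
      · rw [CotT.d2Star_apply, LinearMap.sub_comp, LinearMap.comp_assoc, CotT.d1_comp_d2,
          LinearMap.comp_zero, sub_zero]
        exact e.2
      · show g ∘ₗ (e.1 - ψ' ∘ₗ CotT.d1 P) = c.1
        have h' : (g ∘ₗ ψ') ∘ₗ CotT.d1 P = g ∘ₗ e.1 - c.1 := hψ
        rw [LinearMap.comp_sub, ← LinearMap.comp_assoc, h', sub_sub_cancel]
    · obtain ⟨z, rfl⟩ := Submodule.Quotient.mk_surjective _ x
      refine ⟨fun h => ?_, fun h => ?_⟩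
      · obtain ⟨ψ, hψ⟩ := (Submodule.Quotient.mk_eq_zero _).1 h
        obtain ⟨y, hy⟩ := (hr₁ z).2 ⟨ψ, hψ.symm⟩
        exact ⟨Submodule.Quotient.mk y, hy⟩
      · obtain ⟨y, hy⟩ := h
        obtain ⟨c, rfl⟩ := Submodule.Quotient.mk_surjective _ y
        obtain ⟨ψ, hψ⟩ := (hr₁ z).1 ⟨c, hy⟩
        exact (Submodule.Quotient.mk_eq_zero _).2 ⟨ψ, hψ.symm⟩

end Groth.Agent.CotLib
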