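import Groth.Agent.CotLib.RegSeq
import Mathlib.RingTheory.Finiteness.Nakayama
import Mathlib.RingTheory.Noetherian.Basic

/-!
If all relations among elements of the maximal ideal of a Noetherian local ring are trivial, the
elements form a regular sequence.
-/

set_option autoImplicit false

namespace Groth.Agent.CotLib

variable {R : Type*} [CommRing R]

lemma lin_add {n : ℕ} (a u v : Fin n → R) : lin a (u + v) = lin a u + lin a v := by
  simp [lin, add_mul, Finset.sum_add_distrib]

lemma lin_smul {n : ℕ} (a : Fin n → R) (c : R) (u : Fin n → R) : lin a (c • u) = c * lin a u := by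
  simp [lin, Finset.mul_sum, mul_assoc]

lemma lin_eq_zero_of_mem_triv {n : ℕ} (a r : Fin n → R) (h : r ∈ triv a) : lin a r = 0 := by
  induction h using Submodule.span_induction with
  | mem y hy =>
    obtain ⟨u, v, rfl⟩ := hy
    rw [sub_eq_add_neg, ← neg_smul, lin_add, lin_smul, lin_smul]; ring
  | zero => simp [lin]
  | add x y _ _ hx hy => rw [lin_add, hx, hy, add_zero]
  | smul c x _ hx => rw [lin_smul, hx, mul_zero]

/-- What a trivial relation of `(a', x)` restricts to. -/
lemma triv_split {n : ℕ} (a : Fin (n + 1) → R) (r : Fin (n + 1) → R) (h : r ∈ triv a) :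
    r (Fin.last n) ∈ Ideal.span (Set.range (a ∘ Fin.castSucc)) ∧
    ∃ w : Fin n → R, Fin.init r - a (Fin.last n) • w ∈ triv (a ∘ Fin.castSucc) ∧
      r (Fin.last n) = -lin (a ∘ Fin.castSucc) w := by
  have hlin : ∀ u : Fin n → R, lin (a ∘ Fin.castSucc) u ∈ Ideal.span (Set.range (a ∘ Fin.castSucc)) :=
    fun u => Ideal.sum_mem _ fun i _ => Ideal.mul_mem_left _ _ (Ideal.subset_span ⟨i, rfl⟩)
  suffices ∃ w : Fin n → R, Fin.init r - a (Fin.last n) • w ∈ triv (a ∘ Fin.castSucc) ∧
      r (Fin.last n) = -lin (a ∘ Fin.castSucc) w by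
    obtain ⟨w, h1, h2⟩ := this
    exact ⟨h2 ▸ neg_mem (hlin w), w, h1, h2⟩
  induction h using Submodule.span_induction with
  | mem y hy =>
    obtain ⟨u, v, rfl⟩ := hy
    have hu : lin a u = lin (a ∘ Fin.castSucc) (Fin.init u) + u (Fin.last n) * a (Fin.last n) := by
      rw [← lin_snoc, Fin.snoc_init_self]
    have hv : lin a v = lin (a ∘ Fin.castSucc) (Fin.init v) + v (Fin.last n) * a (Fin.last n) := by
      rw [← lin_snoc, Fin.snoc_init_self]
    refine ⟨u (Fin.last n) • Fin.init v - v (Fin.last n) • Fin.init u, ?_, ?_⟩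
    · refine Submodule.subset_span ⟨Fin.init u, Fin.init v, ?_⟩
      funext i
      simp only [Fin.init, Pi.sub_apply, Pi.smul_apply, smul_eq_mul, hu, hv]
      ring
    · rw [sub_eq_add_neg (u (Fin.last n) • Fin.init v), ← neg_smul, lin_add, lin_smul, lin_smul]
      simp only [Pi.sub_apply, Pi.smul_apply, smul_eq_mul, hu, hv]
      ring
  | zero =>
    refine ⟨0, ?_, by simp [lin]⟩
    rw [show Fin.init (0 : Fin (n + 1) → R) = 0 from rfl, smul_zero, sub_zero]
    exact zero_mem _
  | add x y _ _ hx hy =>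
    obtain ⟨w, h1, h2⟩ := hx
    obtain ⟨w', h1', h2'⟩ := hy
    refine ⟨w + w', ?_, by rw [Pi.add_apply, h2, h2', lin_add, neg_add]⟩
    convert! add_mem h1 h1' using 1
    funext i
    simp only [Fin.init, Pi.sub_apply, Pi.add_apply, Pi.smul_apply, smul_eq_mul]
    ring
  | smul c x _ hx =>
    obtain ⟨w, h1, h2⟩ := hx
    refine ⟨c • w, ?_, by rw [Pi.smul_apply, h2, lin_smul, smul_eq_mul, mul_neg]⟩
    convert! (triv (a ∘ Fin.castSucc)).smul_mem c h1 using 1
    funext i
    simp only [Fin.init, Pi.sub_apply, Pi.smul_apply, smul_eq_mul]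
    ring

theorem regular_of_relations_trivial [IsLocalRing R] [IsNoetherianRing R] :
    ∀ {n : ℕ} (a : Fin n → R), (∀ i, a i ∈ IsLocalRing.maximalIdeal R) →
      (∀ r, lin a r = 0 → r ∈ triv a) →
      ∀ k : Fin n, ∀ x, a k * x ∈ Ideal.span (a '' {i | i < k}) → x ∈ Ideal.span (a '' {i | i < k}) := by
  intro n
  induction n with
  | zero => intro a _ _ k; exact k.elim0
  | succ n ih =>
    intro a hm H k
    have hset : a '' {i | i < Fin.last n} = Set.range (a ∘ Fin.castSucc) := by
      ext y
      simp only [Set.mem_image, Set.mem_ofPred_eq, Set.mem_range, Function.comp_apply]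
      constructor
      · rintro ⟨i, hi, rfl⟩
        exact ⟨i.castPred hi.ne, by rw [Fin.castSucc_castPred]⟩
      · rintro ⟨i, rfl⟩
        exact ⟨i.castSucc, Fin.castSucc_lt_last i, rfl⟩
    have H' : ∀ r, lin (a ∘ Fin.castSucc) r = 0 → r ∈ triv (a ∘ Fin.castSucc) := by
      let K : Submodule R (Fin n → R) :=
        { carrier := {r | lin (a ∘ Fin.castSucc) r = 0}
          add_mem' := fun {x y} hx hy => by
            show lin _ (x + y) = 0
            rw [lin_add, show lin (a ∘ Fin.castSucc) x = 0 from hx,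
              show lin (a ∘ Fin.castSucc) y = 0 from hy, add_zero]
          zero_mem' := by show lin _ 0 = 0; simp [lin]
          smul_mem' := fun c x hx => by
            show lin _ (c • x) = 0
            rw [lin_smul, show lin (a ∘ Fin.castSucc) x = 0 from hx, mul_zero] }
      have hKfg : K.FG := IsNoetherian.noetherian K
      have hle : K ≤ triv (a ∘ Fin.castSucc) ⊔ IsLocalRing.maximalIdeal R • K := by
        intro r hr
        have h1 : lin a (Fin.snoc r 0) = 0 := by rw [lin_snoc, zero_mul, add_zero]; exact hr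
        obtain ⟨-, w, hw, hw0⟩ := triv_split a _ (H _ h1)
        rw [Fin.init_snoc] at hw
        rw [Fin.snoc_last, eq_comm, neg_eq_zero] at hw0
        rw [← sub_add_cancel r (a (Fin.last n) • w)]
        exact Submodule.add_mem_sup hw (Submodule.smul_mem_smul (hm _) hw0)
      intro r hr
      exact (Submodule.le_of_le_smul_of_le_jacobson_bot hKfg
        (IsLocalRing.maximalIdeal_le_jacobson _) hle) hr
    induction k using Fin.lastCases with
    | last =>
      intro x hx
      rw [hset] at hx ⊢
      rw [Ideal.span, Submodule.mem_span_range_iff_exists_fun] at hx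
      obtain ⟨c, hc⟩ := hx
      have h1 : lin a (Fin.snoc c (-x)) = 0 := by
        rw [lin_snoc]
        simp only [lin, Function.comp_apply, smul_eq_mul] at hc ⊢
        rw [hc]; ring
      have h2 := (triv_split a _ (H _ h1)).1
      rw [Fin.snoc_last] at h2
      exact neg_mem_iff.1 h2
    | cast k =>
      intro x
      have e : (a ∘ Fin.castSucc) '' {i | i < k} = a '' {i | i < k.castSucc} := by
        ext y
        simp only [Set.mem_image, Set.mem_ofPred_eq, Function.comp_apply]
        constructor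
        · rintro ⟨i, hi, rfl⟩
          exact ⟨i.castSucc, Fin.castSucc_lt_castSucc_iff.2 hi, rfl⟩
        · rintro ⟨i, hi, rfl⟩
          have hne : i ≠ Fin.last n := (hi.trans (Fin.castSucc_lt_last k)).ne
          refine ⟨i.castPred hne, ?_, by rw [Fin.castSucc_castPred]⟩
          rw [← Fin.castSucc_lt_castSucc_iff, Fin.castSucc_castPred]
          exact hi
      rw [← e]
      exact ih (a ∘ Fin.castSucc) (fun i => hm _) H' k x

theorem isWeaklyRegular_ofFn {n : ℕ} (a : Fin n → R)
    (h : ∀ k : Fin n, ∀ x, a k * x ∈ Ideal.span (a '' {i | i < k}) → x ∈ Ideal.span (a '' {i | i < k})) :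
    RingTheory.Sequence.IsWeaklyRegular R (List.ofFn a) := by
  refine ⟨fun i hi => ?_⟩
  rw [isSMulRegular_quotient_iff_mem_of_smul_mem]
  intro x hx
  have hi' : i < n := by simpa using hi
  have e : Ideal.ofList ((List.ofFn a).take i) = Ideal.span (a '' {j | j < (⟨i, hi'⟩ : Fin n)}) := by
    rw [Ideal.ofList]
    congr 1
    ext y
    simp only [Set.mem_ofPred_eq, List.mem_take_iff_getElem, Set.mem_image, List.length_ofFn,
      List.getElem_ofFn]
    constructor
    · rintro ⟨j, hj, rfl⟩
      exact ⟨⟨j, (lt_min_iff.1 hj).2⟩, (lt_min_iff.1 hj).1, rfl⟩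
    · rintro ⟨j, hj, rfl⟩
      exact ⟨j, lt_min hj j.2, rfl⟩
  simp only [smul_eq_mul, Ideal.mul_top, List.getElem_ofFn, e] at hx ⊢
  exact h _ x hx

end Groth.Agent.CotLib
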