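import Groth.Agent.CotLib.Iso
import Groth.Agent.CotLib.Vasconcelos
import Groth.Agent.CotLib.JZSeq

/-!
Vanishing of `T²` of a quotient of a Noetherian local ring forces a regular sequence (Vasconcelos).
-/

set_option autoImplicit false
set_option backward.isDefEq.respectTransparency false

universe u

open TensorProduct IsLocalRing

namespace Groth.Agent.CotLib

theorem exists_regular_of_T2_eq_zero {A C : Type u} [CommRing A] [IsLocalRing A] [IsNoetherianRing A]
    [CommRing C] [IsLocalRing C] [Algebra A C] (hs : Function.Surjective (algebraMap A C))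
    (h : ∀ (M : Type u) [AddCommGroup M] [Module C M], Subsingleton (CotT.T2 (CotT.canon A C) M)) :
    ∃ rs : List A, RingTheory.Sequence.IsRegular A rs ∧ Ideal.ofList rs = RingHom.ker (algebraMap A C) := by
  classical
  let I := RingHom.ker (algebraMap A C)
  have hIm : I ≤ maximalIdeal A := IsLocalRing.le_maximalIdeal (RingHom.ker_ne_top _)
  have hex : ∃ n, ∃ a : Fin n → A, Ideal.span (Set.range a) = I :=
    Submodule.fg_iff_exists_fin_generating_family.1 (IsNoetherian.noetherian I)
  let n := Nat.find hex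
  obtain ⟨a, ha⟩ := Nat.find_spec hex
  have hmin : ∀ (r : Fin n → A), lin a r = 0 → ∀ i, r i ∈ maximalIdeal A := by
    intro r hr i
    by_contra hu
    rw [IsLocalRing.mem_maximalIdeal, mem_nonunits_iff, not_not] at hu
    obtain ⟨m, hm⟩ : ∃ m, n = m + 1 := Nat.exists_eq_succ_of_ne_zero (Nat.pos_iff_ne_zero.1 (Fin.pos i))
    let e : Fin m → Fin n := fun j => Fin.cast hm.symm (Fin.succAbove (Fin.cast hm i) j)
    refine Nat.find_min hex (show m < n by omega) ⟨a ∘ e, le_antisymm ?_ ?_⟩
    · exact (Ideal.span_mono (Set.range_comp_subset_range e a)).trans ha.le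
    · refine ha.ge.trans (Ideal.span_le.2 ?_)
      rintro _ ⟨j, rfl⟩
      have hne : ∀ j, j ≠ i → a j ∈ Ideal.span (Set.range (a ∘ e)) := fun j hj => by
        obtain ⟨l, hl⟩ := Fin.exists_succAbove_eq (show Fin.cast hm j ≠ Fin.cast hm i by
          simpa [Fin.ext_iff] using hj)
        exact Ideal.subset_span ⟨l, by simp [e, hl]⟩
      by_cases hj : j = i
      · subst hj
        rw [lin, ← Finset.add_sum_erase _ _ (Finset.mem_univ j), add_eq_zero_iff_eq_neg] at hr
        refine (Ideal.unit_mul_mem_iff_mem _ hu).1 (hr ▸ neg_mem (Ideal.sum_mem _ fun k hk => ?_))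
        exact Ideal.mul_mem_left _ _ (hne k (Finset.ne_of_mem_erase hk))
      · exact hne j hj
  let ev : MvPolynomial PEmpty.{u+1} A ≃ₐ[A] A := MvPolynomial.isEmptyAlgEquiv A PEmpty.{u+1}
  let G : Algebra.Generators A C PEmpty.{u+1} :=
    Algebra.Generators.ofSurjective PEmpty.elim (fun b => by
      obtain ⟨x, rfl⟩ := hs b
      exact ⟨MvPolynomial.C x, by simp⟩)
  have hev : ∀ x : MvPolynomial PEmpty.{u+1} A, MvPolynomial.C (ev x) = x := fun x => by
    conv_rhs => rw [← ev.symm_apply_apply x]
    rfl
  have hmemC : ∀ x : A, (MvPolynomial.C x : G.Ring) ∈ G.ker ↔ x ∈ I := by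
    intro x
    rw [Algebra.Generators.ker_eq_ker_aeval_val, RingHom.mem_ker, RingHom.mem_ker]
    simp
  let Q : Algebra.Presentation A C PEmpty.{u+1} (Fin n) :=
    { toGenerators := G
      relation := fun i => MvPolynomial.C (a i)
      span_range_relation_eq_ker := by
        rw [Set.range_comp' (g := MvPolynomial.C), ← Ideal.map_span, ha]
        refine le_antisymm ?_ fun x hx => ?_
        · rw [Ideal.map_le_iff_le_comap]
          exact fun x hx => (hmemC x).2 hx
        · rw [← hev x] at hx ⊢
          exact Ideal.mem_map_of_mem _ ((hmemC _).1 hx) }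
  let ev' : Q.toExtension.Ring →+* A := ev.toRingEquiv.toRingHom
  have hev' : ∀ x : Q.toExtension.Ring, algebraMap Q.toExtension.Ring C x = algebraMap A C (ev' x) := by
    intro x
    rw [CotT.algebraMap_toExtension]
    conv_lhs => rw [← hev x]
    exact MvPolynomial.aeval_C _ _
  have hjlin : ∀ f : CotT.relMod Q, ev' (CotT.jmap Q f) = lin a (fun i => ev' (f i)) := by
    intro f
    induction f using Finsupp.induction_linear with
    | zero => simp [lin]
    | add f g hf hg =>
      rw [map_add, map_add, hf, hg, ← lin_add]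
      congr 1
    | single s r =>
      rw [CotT.jmap_single, map_mul, show (fun i => ev' (Finsupp.single s r i)) = Pi.single s (ev' r) by
        funext i
        by_cases hi : i = s
        · subst hi; simp
        · simp [hi], lin_single]
      congr 1
      exact ev.commutes (a s)
  -- `d₂` is split injective with image in `𝔪 L₁`
  haveI := h (CotT.L2 Q)
  haveI : Subsingleton (CotT.T2 Q (CotT.L2 Q)) :=
    (T2equiv (CotT.canon A C) Q (CotT.L2 Q)).injective.subsingleton
  obtain ⟨φ, hφ⟩ := (Submodule.Quotient.mk_eq_zero _).1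
    (Subsingleton.elim (Submodule.Quotient.mk LinearMap.id : CotT.T2 Q (CotT.L2 Q)) 0)
  have himg : ∀ z, CotT.d2 Q z ∈ maximalIdeal C • (⊤ : Submodule C (CotT.L1 Q)) := by
    intro z
    obtain ⟨q, rfl⟩ := exists_cls' Q z
    rw [d2_cls, ← Finsupp.sum_single (q : CotT.relMod Q), Finsupp.sum, TensorProduct.tmul_sum]
    refine Submodule.sum_mem _ fun s _ => ?_
    rw [← Finsupp.smul_single_one, TensorProduct.tmul_smul, ← algebraMap_smul (R := Q.toExtension.Ring) C]
    refine Submodule.smul_mem_smul ?_ Submodule.mem_top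
    rw [hev']
    refine (IsLocalRing.mem_maximalIdeal _).2 fun hu => ?_
    have h1 : ev' ((q : CotT.relMod Q) s) ∈ maximalIdeal A :=
      hmin (fun i => ev' ((q : CotT.relMod Q) i)) (by
        rw [← hjlin, show CotT.jmap Q (q : CotT.relMod Q) = 0 from q.2, map_zero]) s
    haveI : IsLocalHom (algebraMap A C) := IsLocalHom.of_surjective _ hs
    exact (IsLocalRing.mem_maximalIdeal _).1 h1 (isUnit_of_map_unit (algebraMap A C) _ hu)
  have hφ' : ∀ z, φ (CotT.d2 Q z) = z := fun z => LinearMap.congr_fun hφ z
  haveI : Module.Finite C (CotT.L1 Q) := Module.Finite.of_basis (CotT.L1basis Q)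
  haveI : Module.Finite C (CotT.L2 Q) :=
    Module.Finite.of_surjective φ fun z => ⟨CotT.d2 Q z, hφ' z⟩
  have htop : (⊤ : Submodule C (CotT.L2 Q)) ≤ maximalIdeal C • ⊤ := fun z _ => by
    rw [← hφ' z]
    have h1 := Submodule.mem_map_of_mem (f := φ) (himg z)
    rw [Submodule.map_smul''] at h1
    exact Submodule.smul_mono le_rfl le_top h1
  have hbot := Submodule.eq_bot_of_le_smul_of_le_jacobson_bot (maximalIdeal C) (⊤ : Submodule C (CotT.L2 Q))
    Module.Finite.fg_top htop (IsLocalRing.maximalIdeal_le_jacobson _)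
  have hsyz : ∀ q : CotT.relKer Q, (q : CotT.relMod Q) ∈ CotT.trivRel Q := fun q =>
    mk_eq_zero_of_cls_eq_zero Q ((Submodule.mem_bot C).1 (hbot ▸ Submodule.mem_top))
  have htriv : ∀ f ∈ CotT.trivRel Q, (fun i => ev' (f i)) ∈ triv a := by
    intro f hf
    induction hf using Submodule.span_induction with
    | mem f hf =>
      obtain ⟨u, v, rfl⟩ := hf
      refine Submodule.subset_span ⟨fun i => ev' (u i), fun i => ev' (v i), ?_⟩
      funext i
      simp only [Finsupp.sub_apply, Finsupp.smul_apply, smul_eq_mul, map_sub, map_mul, hjlin,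
        Pi.sub_apply, Pi.smul_apply]
    | zero =>
      convert! zero_mem (triv a)
    | add f g _ _ hf hg =>
      convert! add_mem hf hg
    | smul r f _ hf =>
      convert! (triv a).smul_mem (ev' r) hf
      simp
  have hrel : ∀ r : Fin n → A, lin a r = 0 → r ∈ triv a := by
    intro r hr
    let f : CotT.relMod Q := Finsupp.equivFunOnFinite.symm fun i => MvPolynomial.C (r i)
    have hf : (fun i => ev' (f i)) = r := funext fun i => ev.commutes (r i)
    have hfk : f ∈ CotT.relKer Q := by
      have h1 : ev' (CotT.jmap Q f) = 0 := by rw [hjlin, hf, hr]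
      rw [CotT.relKer, LinearMap.mem_ker]
      exact ev.injective (h1.trans (map_zero ev).symm)
    exact hf ▸ htriv f (hsyz ⟨f, hfk⟩)
  have hmem : ∀ i, a i ∈ maximalIdeal A := fun i => hIm (ha ▸ Ideal.subset_span ⟨i, rfl⟩)
  have hI' : Ideal.ofList (List.ofFn a) = I := by
    refine Eq.trans ?_ ha
    rw [Ideal.ofList]
    congr 1
    ext y
    simp [List.mem_ofFn']
  refine ⟨List.ofFn a, ?_, hI'⟩
  refine (IsLocalRing.isRegular_iff_isWeaklyRegular_of_subset_maximalIdeal fun r hr => ?_).2
    (isWeaklyRegular_ofFn a (regular_of_relations_trivial a hmem hrel))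
  obtain ⟨i, rfl⟩ := (List.mem_ofFn' a r).1 hr
  exact hmem i

end Groth.Agent.CotLib
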