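import Mathlib.RingTheory.Regular.RegularSequence
import Mathlib.Algebra.BigOperators.Fin

/-!
The relations among a weakly regular sequence are spanned by the trivial ones.
-/

set_option autoImplicit false

namespace Groth.Agent.CotLib

variable {R : Type*} [CommRing R]

/-- `r ↦ ∑ rᵢ aᵢ`. -/
def lin {n : ℕ} (a : Fin n → R) (r : Fin n → R) : R := ∑ i, r i * a i

def triv {n : ℕ} (a : Fin n → R) : Submodule R (Fin n → R) :=
  Submodule.span R {y | ∃ u v, y = lin a u • v - lin a v • u}

lemma lin_snoc {n : ℕ} (a : Fin (n + 1) → R) (r : Fin n → R) (x : R) :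
    lin a (Fin.snoc r x) = lin (a ∘ Fin.castSucc) r + x * a (Fin.last n) := by
  simp [lin, Fin.sum_univ_castSucc]

lemma lin_single {n : ℕ} (a : Fin n → R) (i : Fin n) (x : R) : lin a (Pi.single i x) = x * a i := by
  classical
  simp [lin, Pi.single_apply]

theorem mem_triv_of_lin_eq_zero {n : ℕ} (a : Fin n → R)
    (hreg : ∀ k : Fin n, ∀ x, a k * x ∈ Ideal.span (a '' {i | i < k}) →
      x ∈ Ideal.span (a '' {i | i < k})) (r : Fin n → R) (h : lin a r = 0) : r ∈ triv a := by
  classical
  induction n with
  | zero => rw [Subsingleton.elim r 0]; exact zero_mem _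
  | succ n ih =>
    have hset : a '' {i | i < Fin.last n} = Set.range (a ∘ Fin.castSucc) := by
      ext y
      simp only [Set.mem_image, Set.mem_ofPred_eq, Set.mem_range, Function.comp_apply]
      constructor
      · rintro ⟨i, hi, rfl⟩
        exact ⟨i.castPred hi.ne, by rw [Fin.castSucc_castPred]⟩
      · rintro ⟨i, rfl⟩
        exact ⟨i.castSucc, Fin.castSucc_lt_last i, rfl⟩
    have hlast : a (Fin.last n) * r (Fin.last n) ∈ Ideal.span (a '' {i | i < Fin.last n}) := by
      rw [lin, Fin.sum_univ_castSucc, ← eq_neg_iff_add_eq_zero, neg_eq_iff_eq_neg.symm] at h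
      rw [mul_comm, ← neg_neg (r (Fin.last n) * _), ← neg_inj.2 h, neg_neg]
      refine neg_mem (Ideal.sum_mem _ fun i _ => Ideal.mul_mem_left _ _ (Ideal.subset_span ?_))
      exact ⟨i.castSucc, Fin.castSucc_lt_last i, rfl⟩
    have hc := hreg _ _ hlast
    rw [hset, Ideal.span, Submodule.mem_span_range_iff_exists_fun] at hc
    obtain ⟨c, hc⟩ := hc
    -- kill the last coordinate with a trivial relation
    let u : Fin (n + 1) → R := Fin.snoc c 0
    let v : Fin (n + 1) → R := Pi.single (Fin.last n) 1
    have hu : lin a u = r (Fin.last n) := by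
      rw [lin_snoc, zero_mul, add_zero, lin, ← hc]
      rfl
    have hv : lin a v = a (Fin.last n) := by rw [lin_single, one_mul]
    let w : Fin (n + 1) → R := lin a u • v - lin a v • u
    have hw : w ∈ triv a := Submodule.subset_span ⟨u, v, rfl⟩
    have hwl : lin a w = 0 := by
      simp only [w, lin, Pi.sub_apply, Pi.smul_apply, smul_eq_mul, sub_mul, Finset.sum_sub_distrib,
        mul_assoc, ← Finset.mul_sum]
      exact sub_eq_zero.2 (mul_comm _ _)
    obtain ⟨r', hr'⟩ : ∃ r' : Fin n → R, r - w = Fin.snoc r' 0 := by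
      refine ⟨Fin.init (r - w), ?_⟩
      have : (r - w) (Fin.last n) = 0 := by
        simp only [w, Pi.sub_apply, Pi.smul_apply, smul_eq_mul, hu]
        simp [u, v]
      conv_lhs => rw [← Fin.snoc_init_self (r - w), this]
    have hl' : lin (a ∘ Fin.castSucc) r' = 0 := by
      have : lin a (r - w) = 0 := by
        simp only [lin, Pi.sub_apply, sub_mul, Finset.sum_sub_distrib]
        exact sub_eq_zero.2 (h.trans hwl.symm)
      rwa [hr', lin_snoc, zero_mul, add_zero] at this
    have hreg' : ∀ k : Fin n, ∀ x, (a ∘ Fin.castSucc) k * x ∈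
        Ideal.span ((a ∘ Fin.castSucc) '' {i | i < k}) →
        x ∈ Ideal.span ((a ∘ Fin.castSucc) '' {i | i < k}) := by
      intro k x hx
      have e : (a ∘ Fin.castSucc) '' {i | i < k} = a '' {i | i < k.castSucc} := by
        ext y
        simp only [Set.mem_image, Set.mem_ofPred_eq, Function.comp_apply]
        constructor
        · rintro ⟨i, hi, rfl⟩
          exact ⟨i.castSucc, Fin.castSucc_lt_castSucc_iff.2 hi, rfl⟩
        · rintro ⟨i, hi, rfl⟩
          have hne : i ≠ Fin.last n := (hi.trans (Fin.castSucc_lt_last k)).ne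
          refine ⟨i.castPred hne, ?_, by rw [Fin.castSucc_castPred]⟩
          rw [← Fin.castSucc_lt_castSucc_iff, Fin.castSucc_castPred]
          exact hi
      rw [e] at hx ⊢
      exact hreg _ x hx
    have hmem := ih _ hreg' r' hl'
    rw [← sub_add_cancel r w, hr']
    refine add_mem ?_ hw
    clear hr' hl'
    induction hmem using Submodule.span_induction with
    | mem y hy =>
      obtain ⟨p, q, rfl⟩ := hy
      refine Submodule.subset_span ⟨Fin.snoc p 0, Fin.snoc q 0, ?_⟩
      funext i
      induction i using Fin.lastCases <;> simp [lin_snoc]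
    | zero =>
      convert! zero_mem (triv a)
      funext i
      induction i using Fin.lastCases <;> simp
    | add x y _ _ hx hy =>
      convert! add_mem hx hy
      funext i
      induction i using Fin.lastCases <;> simp
    | smul c x _ hx =>
      convert! (triv a).smul_mem c hx
      funext i
      induction i using Fin.lastCases <;> simp

/-- Translation of `IsWeaklyRegular` for the hypothesis of `mem_triv_of_lin_eq_zero`. -/
theorem mem_of_isWeaklyRegular {rs : List R} (h : RingTheory.Sequence.IsWeaklyRegular R rs)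
    (k : Fin rs.length) (x : R)
    (hx : rs.get k * x ∈ Ideal.span (rs.get '' {i | i < k})) :
    x ∈ Ideal.span (rs.get '' {i | i < k}) := by
  have e : Ideal.ofList (rs.take k) = Ideal.span (rs.get '' {i | i < k}) := by
    rw [Ideal.ofList]
    congr 1
    ext y
    simp only [Set.mem_ofPred_eq, List.mem_take_iff_getElem, Set.mem_image, List.get_eq_getElem]
    constructor
    · rintro ⟨i, hi, rfl⟩
      exact ⟨⟨i, (lt_min_iff.1 hi).2⟩, (lt_min_iff.1 hi).1, rfl⟩
    · rintro ⟨i, hi, rfl⟩
      exact ⟨i, lt_min hi i.2, rfl⟩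
  have h0 := h.regular_mod_prev k k.2
  rw [isSMulRegular_quotient_iff_mem_of_smul_mem] at h0
  rw [← e] at hx ⊢
  simpa using h0 x (by simpa using hx)

end Groth.Agent.CotLib
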