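import Groth.Agent.CotLib.Iso
import Groth.Agent.CotLib.Syzygy
import Mathlib.RingTheory.Localization.Basic
import Mathlib.Algebra.MvPolynomial.Eval
import Mathlib.Algebra.Polynomial.Eval.Coeff

/-!
`T²` of a localization vanishes: the relations `s y_s - 1` have only trivial syzygies.
-/

set_option autoImplicit false
set_option backward.isDefEq.respectTransparency false

universe u m

open TensorProduct

namespace Groth.Agent.CotLib

section Regular

variable {C : Type*} [CommRing C] {κ : Type*}

/-- `s y - 1` is regular modulo relations not involving `y`. -/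
lemma mem_of_mul_mem (a : κ → C) (T : Set κ) (k : κ) (hk : k ∉ T) (x : MvPolynomial κ C)
    (hx : (MvPolynomial.C (a k) * MvPolynomial.X k - 1) * x ∈
      Ideal.span ((fun i => (MvPolynomial.C (a i) * MvPolynomial.X i - 1 : MvPolynomial κ C)) '' T)) :
    x ∈ Ideal.span ((fun i => (MvPolynomial.C (a i) * MvPolynomial.X i - 1 : MvPolynomial κ C)) '' T) := by
  classical
  set J := Ideal.span ((fun i => (MvPolynomial.C (a i) * MvPolynomial.X i - 1 : MvPolynomial κ C)) '' T)
    with hJ
  let π := Ideal.Quotient.mk J
  let θ : MvPolynomial κ C →+* Polynomial (MvPolynomial κ C ⧸ J) :=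
    MvPolynomial.eval₂Hom (Polynomial.C.comp (π.comp MvPolynomial.C))
      (fun i => if i = k then Polynomial.C (π (MvPolynomial.X i)) * Polynomial.X
        else Polynomial.C (π (MvPolynomial.X i)))
  have hθJ : ∀ y ∈ J, θ y = 0 := fun y hy => by
    refine RingHom.mem_ker.1 ((Ideal.span_le.2 ?_) hy)
    rintro _ ⟨i, hi, rfl⟩
    have hik : i ≠ k := fun h => hk (h ▸ hi)
    show θ (MvPolynomial.C (a i) * MvPolynomial.X i - 1) = 0
    simp only [θ, map_sub, map_mul, map_one, MvPolynomial.eval₂Hom_C, MvPolynomial.eval₂Hom_X',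
      if_neg hik, RingHom.comp_apply]
    rw [← map_mul, ← Polynomial.C_1, ← map_sub, ← map_one π, ← map_mul, ← map_sub,
      show π (MvPolynomial.C (a i) * MvPolynomial.X i - 1) = 0 from
        Ideal.Quotient.eq_zero_iff_mem.2 (Ideal.subset_span ⟨i, hi, rfl⟩), map_zero]
  have hθk : θ (MvPolynomial.C (a k) * MvPolynomial.X k - 1) =
      Polynomial.C (π (MvPolynomial.C (a k)) * π (MvPolynomial.X k)) * Polynomial.X - 1 := by
    simp only [θ, map_sub, map_mul, map_one, MvPolynomial.eval₂Hom_C, MvPolynomial.eval₂Hom_X',
      if_pos, RingHom.comp_apply, ← mul_assoc]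
  have h0 := hθJ _ hx
  rw [map_mul, hθk, sub_mul, one_mul, sub_eq_zero] at h0
  have hcoef : ∀ n, (θ x).coeff n = 0 := by
    intro n
    induction n with
    | zero => rw [← h0, mul_assoc, Polynomial.coeff_C_mul, Polynomial.coeff_X_mul_zero, mul_zero]
    | succ n ih => rw [← h0, mul_assoc, Polynomial.coeff_C_mul, Polynomial.coeff_X_mul, ih, mul_zero]
  have hθ0 : θ x = 0 := Polynomial.ext fun n => by rw [hcoef, Polynomial.coeff_zero]
  have hev : ∀ y, Polynomial.eval 1 (θ y) = π y := fun y => by
    suffices (Polynomial.evalRingHom (1 : MvPolynomial κ C ⧸ J)).comp θ = π from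
      DFunLike.congr_fun this y
    refine MvPolynomial.ringHom_ext (fun r => ?_) (fun i => ?_)
    · simp [θ]
    · by_cases h : i = k <;> simp [θ, h]
  rw [← Ideal.Quotient.eq_zero_iff_mem]
  show π x = 0
  rw [← hev x, hθ0, Polynomial.eval_zero]

end Regular

theorem subsingleton_T2_localization {C S : Type u} [CommRing C] [CommRing S] [Algebra C S]
    (M₀ : Submonoid C) [IsLocalization M₀ S] (M : Type m) [AddCommGroup M] [Module S M] :
    Subsingleton (CotT.T2 (CotT.canon C S) M) := by
  classical
  let rel : M₀ → MvPolynomial M₀ C := fun s => MvPolynomial.C (s : C) * MvPolynomial.X s - 1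
  let val : M₀ → S := fun s => IsLocalization.mk' S 1 s
  have hsurj : Function.Surjective (MvPolynomial.aeval (R := C) val) := fun y => by
    obtain ⟨c, s, rfl⟩ := IsLocalization.exists_mk'_eq M₀ y
    refine ⟨MvPolynomial.C c * MvPolynomial.X s, ?_⟩
    rw [map_mul, MvPolynomial.aeval_C, MvPolynomial.aeval_X, IsLocalization.mk'_eq_mul_mk'_one]
  let G : Algebra.Generators C S M₀ := Algebra.Generators.ofSurjective val hsurj
  let J := Ideal.span (Set.range rel)
  have hval : ∀ s : M₀, algebraMap C S s * val s = 1 := fun s => by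
    rw [mul_comm, IsLocalization.mk'_spec, map_one]
  have hker : J = G.ker := by
    rw [Algebra.Generators.ker_eq_ker_aeval_val]
    have hrel : ∀ s, MvPolynomial.aeval val (rel s) = 0 := fun s => by
      simp [rel, hval s]
    refine le_antisymm (Ideal.span_le.2 ?_) fun x hx => ?_
    · rintro _ ⟨s, rfl⟩
      exact hrel s
    · let π := Ideal.Quotient.mk J
      have hu : ∀ s : M₀, π (MvPolynomial.C (s : C)) * π (MvPolynomial.X s) = 1 := fun s => by
        rw [← map_mul, ← sub_eq_zero, ← map_one π, ← map_sub]
        exact Ideal.Quotient.eq_zero_iff_mem.2 (Ideal.subset_span ⟨s, rfl⟩)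
      let inv : S →+* MvPolynomial M₀ C ⧸ J :=
        IsLocalization.lift (M := M₀) (g := π.comp MvPolynomial.C) fun s =>
          IsUnit.of_mul_eq_one _ (hu s)
      have hc : inv.comp (MvPolynomial.aeval (R := C) val).toRingHom = π := by
        refine MvPolynomial.ringHom_ext (fun c => ?_) (fun s => ?_)
        · show inv (MvPolynomial.aeval val (MvPolynomial.C c)) = π (MvPolynomial.C c)
          rw [MvPolynomial.aeval_C]
          exact IsLocalization.lift_eq _ c
        · show inv (MvPolynomial.aeval val (MvPolynomial.X s)) = π (MvPolynomial.X s)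
          rw [MvPolynomial.aeval_X]
          have h1 : π (MvPolynomial.C (s : C)) * inv (val s) = 1 := by
            have := congrArg inv (hval s)
            rwa [map_mul, map_one, IsLocalization.lift_eq] at this
          calc inv (val s) = π (MvPolynomial.X s) * π (MvPolynomial.C (s : C)) * inv (val s) := by
                rw [mul_comm (π (MvPolynomial.X s)), hu, one_mul]
            _ = π (MvPolynomial.X s) := by rw [mul_assoc, h1, mul_one]
      refine Ideal.Quotient.eq_zero_iff_mem.1 ?_
      show π x = 0
      rw [← hc]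
      show inv (MvPolynomial.aeval val x) = 0
      rw [show MvPolynomial.aeval val x = 0 from hx, map_zero]
  let Q : Algebra.Presentation C S M₀ M₀ :=
    { toGenerators := G, relation := rel, span_range_relation_eq_ker := hker }
  have hsyz : ∀ q : CotT.relKer Q, (q : CotT.relMod Q) ∈ CotT.trivRel Q := by
    intro q
    let T := (q : CotT.relMod Q).support
    let e : Fin T.card ≃ T := T.equivFin.symm
    let a : Fin T.card → Q.toExtension.Ring := fun k => CotT.rel Q (e k).1
    let W : (Fin T.card → Q.toExtension.Ring) →ₗ[Q.toExtension.Ring] CotT.relMod Q :=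
      { toFun := fun r => ∑ k, Finsupp.single (e k).1 (r k)
        map_add' := fun r r' => by simp [Finset.sum_add_distrib]
        map_smul' := fun c r => by simp [Finset.smul_sum] }
    have hjW : ∀ r, CotT.jmap Q (W r) = lin a r := fun r => by
      show CotT.jmap Q (∑ k, Finsupp.single (e k).1 (r k)) = _
      rw [map_sum, lin]
      exact Finset.sum_congr rfl fun k _ => CotT.jmap_single _ _ _
    have hWq : W (fun k => (q : CotT.relMod Q) (e k).1) = (q : CotT.relMod Q) := by
      show ∑ k, Finsupp.single (e k).1 ((q : CotT.relMod Q) (e k).1) = _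
      rw [e.sum_comp (fun s => Finsupp.single s.1 ((q : CotT.relMod Q) s.1)),
        Finset.sum_coe_sort T (fun s => Finsupp.single s ((q : CotT.relMod Q) s))]
      exact Finsupp.sum_single _
    have hreg : ∀ k : Fin T.card, ∀ x, a k * x ∈ Ideal.span (a '' {i | i < k}) →
        x ∈ Ideal.span (a '' {i | i < k}) := by
      intro k x hx
      have himg : a '' {i | i < k} = (fun s : M₀ =>
          (MvPolynomial.C (s : C) * MvPolynomial.X s - 1 : MvPolynomial M₀ C)) ''
          ((fun i => ((e i).1 : M₀)) '' {i | i < k}) := by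
        rw [Set.image_image]
      rw [himg] at hx ⊢
      refine mem_of_mul_mem (fun s : M₀ => (s : C)) _ (e k).1 ?_ x hx
      rintro ⟨i, hi, hik⟩
      exact absurd (e.injective (Subtype.ext hik)) (ne_of_lt hi)
    have h0 : lin a (fun k => (q : CotT.relMod Q) (e k).1) = 0 := by
      rw [← hjW, hWq]; exact q.2
    have hmem := mem_triv_of_lin_eq_zero a hreg _ h0
    rw [← hWq]
    generalize (fun k => (q : CotT.relMod Q) (e k).1) = r at hmem
    induction hmem using Submodule.span_induction with
    | mem y hy =>
      obtain ⟨u, v, rfl⟩ := hy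
      exact Submodule.subset_span ⟨W u, W v, by rw [map_sub, map_smul, map_smul, hjW, hjW]⟩
    | zero => rw [map_zero]; exact zero_mem _
    | add x y _ _ hx hy => rw [map_add]; exact add_mem hx hy
    | smul c x _ hx => rw [map_smul]; exact (CotT.trivRel Q).smul_mem c hx
  haveI : Subsingleton (CotT.L2 Q →ₗ[S] M) := ⟨fun φ ψ => L2_ext Q fun q => by
    have h1 : cls Q q = 0 := by
      rw [cls_congr Q (x := q) (y := 0) ((mk_eq_mk Q).2 (by simpa using hsyz q)),
        cls, TensorProduct.tmul_zero, Submodule.Quotient.mk_zero]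
    rw [h1, map_zero, map_zero]⟩
  haveI : Subsingleton (CotT.T2 Q M) := (Submodule.Quotient.mk_surjective _).subsingleton
  exact (T2equiv (CotT.canon C S) Q M).symm.injective.subsingleton

end Groth.Agent.CotLib
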