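import Groth.Agent.DepthLib.RegularQuotient
import Groth.Agent.CotLib.Syzygy

/-!
A regular system of parameters is a regular sequence; a regular quotient of a regular local ring is
cut out by a regular sequence.
-/

set_option autoImplicit false

universe u

open IsLocalRing

namespace Groth.Agent.CotLib

/-- Every element of the list is regular modulo the previous ones. -/
def RegStep {R : Type*} [CommRing R] (xs : List R) : Prop :=
  ∀ (k : ℕ) (hk : k < xs.length) (y : R), xs[k] * y ∈ Ideal.ofList (xs.take k) →
    y ∈ Ideal.ofList (xs.take k)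

theorem regStep_of_regular_system (n : ℕ) : ∀ (R : Type u) [CommRing R] [IsRegularLocalRing R]
    (xs : List R), xs.length = n → (maximalIdeal R).spanFinrank = n →
    Ideal.ofList xs = maximalIdeal R → RegStep xs := by
  induction n with
  | zero => intro R _ _ xs hlen _ _ k hk; omega
  | succ n ih =>
    intro R _ _ xs hlen hn hm
    obtain ⟨x, ys, rfl⟩ := List.exists_cons_of_length_eq_add_one hlen
    haveI := DepthLib.isDomain_of_isRegularLocalRing R
    have hxm : x ∈ maximalIdeal R := hm ▸ Ideal.subset_span List.mem_cons_self
    have hys : ys.length = n := by simpa using hlen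
    have hx2 : x ∉ maximalIdeal R ^ 2 := fun hx => by
      have hle : maximalIdeal R ≤ Ideal.ofList ys := by
        refine Submodule.le_of_le_smul_of_le_jacobson_bot (IsNoetherian.noetherian _)
          (IsLocalRing.maximalIdeal_le_jacobson _) ?_
        rw [smul_eq_mul, ← pow_two]
        conv_lhs => rw [← hm, Ideal.ofList_cons, sup_comm]
        exact sup_le_sup le_rfl ((Ideal.span_singleton_le_iff_mem _).2 hx)
      have heq : maximalIdeal R = Ideal.ofList ys :=
        le_antisymm hle (by rw [← hm, Ideal.ofList_cons]; exact le_sup_right)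
      classical
      have h1 : (Ideal.ofList ys).spanFinrank ≤ ys.length := by
        refine le_trans ?_ (List.toFinset_card_le ys)
        rw [Ideal.ofList, show {r | r ∈ ys} = (ys.toFinset : Set R) by ext; simp]
        exact (Submodule.spanFinrank_span_le_ncard_of_finite ys.toFinset.finite_toSet).trans
          (le_of_eq (Set.ncard_coe_finset _))
      rw [← heq, hn, hys] at h1
      omega
    have hx0 : x ≠ 0 := fun h => hx2 (h ▸ zero_mem _)
    obtain ⟨hreg', hk⟩ := DepthLib.isRegularLocalRing_quotient_singleton hn hxm hx2
    let f := Ideal.Quotient.mk (Ideal.span ({x} : Set R))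
    have hmap : Ideal.ofList (ys.map f) = maximalIdeal (R ⧸ Ideal.span ({x} : Set R)) := by
      rw [← Ideal.map_ofList]
      have h1 : (Ideal.ofList ys).map f = (maximalIdeal R).map f := by
        rw [← hm, Ideal.ofList_cons, Ideal.map_sup, Ideal.map_span f {x}, Set.image_singleton]
        rw [show f x = 0 from Ideal.Quotient.eq_zero_iff_mem.2 (Ideal.mem_span_singleton_self x),
          Ideal.span_singleton_zero, bot_sup_eq]
      rw [h1]
      exact IsLocalRing.eq_maximalIdeal (Ideal.IsMaximal.map_of_surjective_of_ker_le
        Ideal.Quotient.mk_surjective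
        (by rw [Ideal.mk_ker]; exact (Ideal.span_singleton_le_iff_mem _).2 hxm))
    have hrec := ih _ (ys.map f) (by simpa using hys) hk hmap
    intro j hj y hy
    match j with
    | 0 =>
      simp only [List.take_zero, Ideal.ofList_nil, Ideal.mem_bot, List.getElem_cons_zero] at hy ⊢
      exact (mul_eq_zero.1 hy).resolve_left hx0
    | i + 1 =>
      simp only [List.take_succ_cons, Ideal.ofList_cons, List.getElem_cons_succ] at hy ⊢
      have hfy : f y ∈ Ideal.ofList ((ys.map f).take i) := by
        refine hrec i (by simpa using hj) (f y) ?_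
        rw [List.getElem_map, ← map_mul, ← List.map_take, ← Ideal.map_ofList]
        have := Ideal.mem_map_of_mem f hy
        rwa [Ideal.map_sup, Ideal.map_span f {x}, Set.image_singleton,
          show f x = 0 from Ideal.Quotient.eq_zero_iff_mem.2 (Ideal.mem_span_singleton_self x),
          Ideal.span_singleton_zero, bot_sup_eq] at this
      rw [← List.map_take, ← Ideal.map_ofList, ← Ideal.mem_comap,
        Ideal.comap_map_of_surjective' _ Ideal.Quotient.mk_surjective, Ideal.mk_ker] at hfy
      rwa [sup_comm]

theorem exists_regStep {R : Type u} [CommRing R] [IsRegularLocalRing R] (I : Ideal R)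
    (hI : IsRegularLocalRing (R ⧸ I)) : ∃ rs : List R, RegStep rs ∧ I = Ideal.ofList rs := by
  obtain ⟨xs, hlen, hm, c, hc, hIc⟩ :=
    DepthLib.exists_regular_system_of_regular_quotient _ R I rfl hI
  have h := regStep_of_regular_system _ R xs hlen rfl hm
  refine ⟨xs.take c, fun k hk y hy => ?_, hIc⟩
  rw [List.length_take] at hk
  have hkc : k ≤ c := by omega
  rw [List.take_take, min_eq_left hkc] at hy ⊢
  rw [List.getElem_take] at hy
  exact h k (by omega) y hy

theorem RegStep.mem {R : Type*} [CommRing R] {rs : List R} (h : RegStep rs) (k : Fin rs.length) (x : R)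
    (hx : rs.get k * x ∈ Ideal.span (rs.get '' {i | i < k})) :
    x ∈ Ideal.span (rs.get '' {i | i < k}) := by
  have e : Ideal.ofList (rs.take k) = Ideal.span (rs.get '' {i | i < k}) := by
    rw [Ideal.ofList]
    congr 1
    ext y
    simp only [Set.mem_ofPred_eq, List.mem_take_iff_getElem, Set.mem_image, List.get_eq_getElem]
    constructor
    · rintro ⟨i, hi, rfl⟩
      exact ⟨⟨i, (lt_min_iff.1 hi).2⟩, (lt_min_iff.1 hi).1, rfl⟩
    · rintro ⟨i, hi, rfl⟩
      exact ⟨i, lt_min hi i.2, rfl⟩
  rw [← e] at hx ⊢
  exact h k k.2 x hx

end Groth.Agent.CotLib
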