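import Groth.Agent.CotLib.Iso
import Groth.Agent.CotLib.RegSeq
import Mathlib.RingTheory.Localization.AtPrime.Basic
import Mathlib.RingTheory.Localization.Algebra

/-!
Vanishing of `T²` when the ideal of the presentation is locally generated by regular sequences and
`I/I²` is projective.
-/

set_option autoImplicit false
set_option backward.isDefEq.respectTransparency false

universe u v w t m

open TensorProduct

namespace Groth.Agent.CotLib

section Koszul

variable {S : Type*} [CommRing S] {F : Type*} [AddCommGroup F] [Module S F]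

/-- The trivial relations of a linear form. -/
def trivOf (j : F →ₗ[S] S) : Submodule S F :=
  Submodule.span S {y | ∃ a b, y = j a • b - j b • a}

theorem mem_trivOf (j : F →ₗ[S] S) (rs : List S) (hrs : RegStep rs)
    (hI : LinearMap.range j = Ideal.ofList rs) (x : F)
    (hx : x ∈ LinearMap.range j • (⊤ : Submodule S F)) (hjx : j x = 0) : x ∈ trivOf j := by
  classical
  have hw : ∀ i : Fin rs.length, ∃ w, j w = rs.get i := fun i => by
    rw [← LinearMap.mem_range, hI]
    exact Ideal.subset_span (List.getElem_mem i.2)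
  choose w hw using hw
  let W : (Fin rs.length → S) →ₗ[S] F :=
    { toFun := fun d => ∑ i, d i • w i
      map_add' := fun d e => by simp [add_smul, Finset.sum_add_distrib]
      map_smul' := fun r d => by simp [Finset.smul_sum, mul_smul] }
  have hjW : ∀ d, j (W d) = lin rs.get d := fun d => by
    simp [W, lin, map_sum, hw]
  have hsmul : ∀ r ∈ LinearMap.range j, ∀ q, j q = 0 → r • q ∈ trivOf j := by
    rintro _ ⟨a, rfl⟩ q hq
    exact Submodule.subset_span ⟨a, q, by rw [hq, zero_smul, sub_zero]⟩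
  have key : ∃ d, x - W d ∈ trivOf j := by
    refine Submodule.smul_induction_on hx (fun r hr f _ => ?_) ?_
    · have hf : j f ∈ Ideal.ofList rs := hI ▸ LinearMap.mem_range_self j f
      rw [Ideal.ofList, ← Set.range_list_get, Ideal.span, Submodule.mem_span_range_iff_exists_fun] at hf
      obtain ⟨c, hc⟩ := hf
      refine ⟨r • c, ?_⟩
      rw [map_smul, ← smul_sub]
      refine hsmul r hr _ ?_
      rw [map_sub, hjW, lin, sub_eq_zero]
      exact hc.symm
    · rintro y z ⟨d, hd⟩ ⟨e, he⟩
      refine ⟨d + e, ?_⟩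
      rw [map_add, add_sub_add_comm]
      exact add_mem hd he
  obtain ⟨d, hd⟩ := key
  have hj0 : ∀ y ∈ trivOf j, j y = 0 := fun y hy => by
    induction hy using Submodule.span_induction with
    | mem y hy => obtain ⟨a, b, rfl⟩ := hy; simp [mul_comm]
    | zero => simp
    | add a b _ _ ha hb => rw [map_add, ha, hb, add_zero]
    | smul r a _ ha => rw [map_smul, ha, smul_zero]
  have hd0 : lin rs.get d = 0 := by
    have h1 := hj0 _ hd
    rw [map_sub, hjx, zero_sub, neg_eq_zero] at h1
    rw [← hjW, h1]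
  have hWd : W d ∈ trivOf j := by
    have h1 := mem_triv_of_lin_eq_zero rs.get (fun k y hy => hrs.mem k y hy) d hd0
    revert h1
    generalize d = e
    intro h1
    induction h1 using Submodule.span_induction with
    | mem y hy =>
      obtain ⟨a, b, rfl⟩ := hy
      exact Submodule.subset_span ⟨W a, W b, by rw [map_sub, map_smul, map_smul, hjW, hjW]⟩
    | zero => rw [map_zero]; exact zero_mem _
    | add a b _ _ ha hb => rw [map_add]; exact add_mem ha hb
    | smul r a _ ha => rw [map_smul]; exact (trivOf j).smul_mem r ha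
  have := add_mem hd hWd
  rwa [sub_add_cancel] at this

end Koszul

section Descent

variable {R : Type*} [CommRing R] {σ : Type*} (g : σ → R)

/-- An element of `IF ∩ ker j` is a trivial relation if `I` is locally generated by regular sequences. -/
theorem mem_trivOf_of_local
    (H : ∀ P : Ideal R, P.IsMaximal → Ideal.span (Set.range g) ≤ P → ∀ [P.IsPrime],
      ∃ rs : List (Localization.AtPrime P), RegStep rs ∧
        (Ideal.span (Set.range g)).map (algebraMap R (Localization.AtPrime P)) = Ideal.ofList rs)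
    (x : σ →₀ R) (hx : ∀ s, x s ∈ Ideal.span (Set.range g))
    (hjx : Finsupp.linearCombination R g x = 0) :
    x ∈ trivOf (Finsupp.linearCombination R g) := by
  classical
  set j := Finsupp.linearCombination R g
  set T := trivOf j
  let 𝔞 : Ideal R := T.comap (LinearMap.toSpanSingleton R (σ →₀ R) x)
  suffices 𝔞 = ⊤ by
    have h1 : (1 : R) ∈ 𝔞 := this ▸ Submodule.mem_top
    simpa [𝔞] using h1
  by_contra hne
  obtain ⟨P, hP, hle⟩ := Ideal.exists_le_maximal 𝔞 hne
  haveI := hP.isPrime
  have hmem : ∀ r, r ∈ 𝔞 ↔ r • x ∈ T := fun r => by simp [𝔞]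
  suffices ∃ t, t ∉ P ∧ t • x ∈ T by
    obtain ⟨t, htP, ht⟩ := this
    exact htP (hle ((hmem t).2 ht))
  by_cases hIP : Ideal.span (Set.range g) ≤ P
  swap
  · obtain ⟨r, hr, hrP⟩ := SetLike.not_le_iff_exists.1 hIP
    refine ⟨r, hrP, ?_⟩
    have hr' : r ∈ LinearMap.range j := by rw [Finsupp.range_linearCombination]; exact hr
    obtain ⟨a, rfl⟩ := hr'
    exact Submodule.subset_span ⟨a, x, by rw [hjx, zero_smul, sub_zero]⟩
  let S := Localization.AtPrime P
  let α := algebraMap R S
  let jP : (σ →₀ S) →ₗ[S] S := Finsupp.linearCombination S (α ∘ g)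
  let ℓ : (σ →₀ R) →ₗ[R] (σ →₀ S) := Finsupp.mapRange.linearMap (Algebra.linearMap R S)
  have hjℓ : ∀ f, jP (ℓ f) = α (j f) := fun f => by
    induction f using Finsupp.induction_linear with
    | zero => simp
    | add a b ha hb => rw [map_add, map_add, ha, hb, map_add, map_add]
    | single s r => simp [jP, ℓ, j, α]
  obtain ⟨rs, hrs, hIrs⟩ := H P hP hIP
  have hrange : LinearMap.range jP = Ideal.ofList rs := by
    rw [← hIrs, Finsupp.range_linearCombination, Set.range_comp, Ideal.map_span]
  have hxT : ℓ x ∈ trivOf jP := by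
    refine mem_trivOf jP rs hrs hrange _ ?_ (by rw [hjℓ, hjx, map_zero])
    rw [← Finsupp.sum_single (ℓ x)]
    refine Submodule.sum_mem _ fun s _ => ?_
    show Finsupp.single s (ℓ x s) ∈ _
    rw [← Finsupp.smul_single_one]
    refine Submodule.smul_mem_smul ?_ Submodule.mem_top
    rw [hrange, ← hIrs]
    exact Ideal.mem_map_of_mem _ (hx s)
  have hlift : ∀ u : σ →₀ S, ∃ t, t ∉ P ∧ ∃ u₀, t • u = ℓ u₀ := fun u => by
    induction u using Finsupp.induction_linear with
    | zero => exact ⟨1, P.ne_top_iff_one.1 hP.ne_top, 0, by simp⟩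
    | add a b ha hb =>
      obtain ⟨t, ht, a₀, ha₀⟩ := ha
      obtain ⟨t', ht', b₀, hb₀⟩ := hb
      refine ⟨t' * t, fun h => (hP.isPrime.mem_or_mem h).elim ht' ht, t' • a₀ + t • b₀, ?_⟩
      rw [map_add, map_smul, map_smul, ← ha₀, ← hb₀, smul_smul, smul_smul, smul_add, mul_comm t t']
    | single s r =>
      obtain ⟨a, t, rfl⟩ := IsLocalization.exists_mk'_eq P.primeCompl r
      refine ⟨t, t.2, Finsupp.single s a, ?_⟩
      rw [Finsupp.smul_single, Finsupp.mapRange.linearMap_apply, Finsupp.mapRange_single,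
        Algebra.smul_def, mul_comm, IsLocalization.mk'_spec]
      rfl
  have hdesc : ∀ y ∈ trivOf jP, ∃ t, t ∉ P ∧ ∃ z ∈ T, t • y = ℓ z := by
    intro y hy
    induction hy using Submodule.span_induction with
    | mem y hy =>
      obtain ⟨a, b, rfl⟩ := hy
      obtain ⟨t, ht, a₀, ha₀⟩ := hlift a
      obtain ⟨t', ht', b₀, hb₀⟩ := hlift b
      refine ⟨t * t', fun h => (hP.isPrime.mem_or_mem h).elim ht ht', j a₀ • b₀ - j b₀ • a₀,
        Submodule.subset_span ⟨a₀, b₀, rfl⟩, ?_⟩
      have h1 : α (j a₀) = α t * jP a := by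
        rw [← hjℓ, ← ha₀, ← algebraMap_smul S t a, map_smul]; rfl
      have h2 : α (j b₀) = α t' * jP b := by
        rw [← hjℓ, ← hb₀, ← algebraMap_smul S t' b, map_smul]; rfl
      rw [map_sub, map_smul, map_smul, ← algebraMap_smul S (j a₀), ← algebraMap_smul S (j b₀),
        ← ha₀, ← hb₀, ← algebraMap_smul S t a, ← algebraMap_smul S t' b,
        ← algebraMap_smul S (t * t'), map_mul, h1, h2, smul_sub, smul_smul, smul_smul, smul_smul,
        smul_smul]
      congr 2 <;> ring
    | zero => exact ⟨1, P.ne_top_iff_one.1 hP.ne_top, 0, zero_mem _, by simp⟩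
    | add a b _ _ ha hb =>
      obtain ⟨t, ht, a₀, haT, ha₀⟩ := ha
      obtain ⟨t', ht', b₀, hbT, hb₀⟩ := hb
      refine ⟨t' * t, fun h => (hP.isPrime.mem_or_mem h).elim ht' ht, t' • a₀ + t • b₀,
        add_mem (T.smul_mem _ haT) (T.smul_mem _ hbT), ?_⟩
      rw [map_add, map_smul, map_smul, ← ha₀, ← hb₀, smul_smul, smul_smul, smul_add, mul_comm t t']
    | smul r a _ ha =>
      obtain ⟨t, ht, a₀, haT, ha₀⟩ := ha
      obtain ⟨c, t', rfl⟩ := IsLocalization.exists_mk'_eq P.primeCompl r
      refine ⟨(t' : R) * t, fun h => (hP.isPrime.mem_or_mem h).elim t'.2 ht, c • a₀,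
        T.smul_mem _ haT, ?_⟩
      rw [map_smul, ← ha₀, ← algebraMap_smul S ((t' : R) * t), ← algebraMap_smul S c (t • a),
        ← algebraMap_smul S t a, map_mul, smul_smul, smul_smul]
      congr 1
      rw [mul_comm (algebraMap R S t') (algebraMap R S t), mul_assoc, IsLocalization.mk'_spec',
        mul_comm]
  obtain ⟨t, ht, z, hz, htz⟩ := hdesc _ hxT
  rw [← map_smul, ← sub_eq_zero, ← map_sub] at htz
  have hkill : ∃ t', t' ∉ P ∧ t' • (t • x - z) = 0 := by
    generalize t • x - z = v at htz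
    have hs : ∀ s ∈ v.support, ∃ c : P.primeCompl, (c : R) * v s = 0 := fun s _ => by
      have h1 : α (v s) = 0 := by
        have := DFunLike.congr_fun htz s
        simpa [ℓ, α] using this
      obtain ⟨c, hc⟩ := (IsLocalization.map_eq_zero_iff P.primeCompl S _).1 h1
      exact ⟨c, hc⟩
    choose c hc using hs
    refine ⟨∏ s : v.support, (c s.1 s.2 : R), fun h => ?_, Finsupp.ext fun s => ?_⟩
    · obtain ⟨s, -, hs⟩ := (Ideal.IsPrime.prod_mem_iff).1 h
      exact (c s.1 s.2).2 hs
    · by_cases hs : s ∈ v.support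
      · rw [Finsupp.smul_apply, smul_eq_mul, Finsupp.zero_apply,
          ← Finset.prod_erase_mul _ _ (Finset.mem_univ (⟨s, hs⟩ : v.support)), mul_assoc, hc s hs, mul_zero]
      · simp [Finsupp.notMem_support_iff.1 hs]
  obtain ⟨t', ht', h0⟩ := hkill
  refine ⟨t' * t, fun h => (hP.isPrime.mem_or_mem h).elim ht' ht, ?_⟩
  rw [mul_smul, ← sub_add_cancel (t • x) z, smul_add, h0, zero_add]
  exact T.smul_mem _ hz

end Descent

section T2

variable {A : Type u} {B : Type v} {ι : Type w} {σ : Type t}
variable [CommRing A] [CommRing B] [Algebra A B] (P : Algebra.Presentation A B ι σ)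

lemma exists_cls (z : CotT.L2 P) : ∃ q, z = cls P q := by
  induction z using Submodule.Quotient.induction_on with
  | H z =>
    induction z using TensorProduct.induction_on with
    | zero => exact ⟨0, by rw [cls, TensorProduct.tmul_zero]⟩
    | add x y hx hy =>
      obtain ⟨a, ha⟩ := hx
      obtain ⟨b, hb⟩ := hy
      exact ⟨a + b, by rw [Submodule.Quotient.mk_add, ha, hb, cls, cls, cls, TensorProduct.tmul_add,
        Submodule.Quotient.mk_add]⟩
    | tmul b q =>
      obtain ⟨r, rfl⟩ := P.toExtension.algebraMap_surjective b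
      refine ⟨r • q, ?_⟩
      rw [cls, ← TensorProduct.smul_tmul, Algebra.smul_def, mul_one]

lemma exists_one_tmul (z : CotT.L1 P) : ∃ f, (1 : B) ⊗ₜ f = z := by
  induction z using TensorProduct.induction_on with
  | zero => exact ⟨0, TensorProduct.tmul_zero _ _⟩
  | tmul b f =>
    obtain ⟨r, rfl⟩ := P.toExtension.algebraMap_surjective b
    exact ⟨r • f, by rw [← TensorProduct.smul_tmul, Algebra.smul_def, mul_one]⟩
  | add x y hx hy =>
    obtain ⟨a, rfl⟩ := hx
    obtain ⟨b, rfl⟩ := hy
    exact ⟨a + b, TensorProduct.tmul_add _ _ _⟩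

lemma toCot_surjective' : Function.Surjective (CotT.toCot P) := by
  intro y
  obtain ⟨x, rfl⟩ := Algebra.Extension.Cotangent.mk_surjective y
  obtain ⟨f, hf⟩ : (x : P.toExtension.Ring) ∈ LinearMap.range (CotT.jmap P) := by
    rw [CotT.range_jmap]; exact x.2
  refine ⟨(1 : B) ⊗ₜ f, ?_⟩
  rw [CotT.toCot_tmul, one_smul]
  exact congrArg _ (Subtype.ext hf)

lemma exists_coeff_mem {x : P.toExtension.Ring} (hx : x ∈ P.toExtension.ker ^ 2) :
    ∃ z : CotT.relMod P, CotT.jmap P z = x ∧ (1 : B) ⊗ₜ[P.toExtension.Ring] z = (0 : CotT.L1 P) := by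
  rw [sq] at hx
  refine Submodule.mul_induction_on hx (fun a ha b hb => ?_) ?_
  · obtain ⟨f, hf⟩ : b ∈ LinearMap.range (CotT.jmap P) := by rw [CotT.range_jmap]; exact hb
    refine ⟨a • f, by rw [map_smul, hf, smul_eq_mul], ?_⟩
    rw [TensorProduct.tmul_smul, ← algebraMap_smul B a,
      show algebraMap P.toExtension.Ring B a = 0 from ha, zero_smul]
  · rintro a b ⟨z, hz, hz0⟩ ⟨z', hz', hz0'⟩
    exact ⟨z + z', by rw [map_add, hz, hz'], by rw [TensorProduct.tmul_add, hz0, hz0', add_zero]⟩

lemma ker_toCot_le_range_d2 : LinearMap.ker (CotT.toCot P) ≤ LinearMap.range (CotT.d2 P) := by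
  intro z hz
  obtain ⟨f, rfl⟩ := exists_one_tmul P z
  rw [LinearMap.mem_ker, CotT.toCot_tmul, one_smul, Algebra.Extension.Cotangent.mk_eq_zero_iff] at hz
  obtain ⟨w, hw, hw0⟩ := exists_coeff_mem P hz
  refine ⟨cls P ⟨f - w, ?_⟩, ?_⟩
  · rw [CotT.relKer, LinearMap.mem_ker, map_sub, hw]
    exact sub_self _
  · rw [d2_cls, TensorProduct.tmul_sub, hw0, sub_zero]

lemma d2_injective
    (H : ∀ M : Ideal P.toExtension.Ring, M.IsMaximal → P.toExtension.ker ≤ M → ∀ [M.IsPrime],
      ∃ rs : List (Localization.AtPrime M), RegStep rs ∧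
        P.toExtension.ker.map (algebraMap P.toExtension.Ring (Localization.AtPrime M)) = Ideal.ofList rs) :
    Function.Injective (CotT.d2 P) := by
  rw [injective_iff_map_eq_zero]
  intro z hz
  obtain ⟨q, rfl⟩ := exists_cls P z
  rw [d2_cls] at hz
  have hspan : Ideal.span (Set.range (CotT.rel P)) = P.toExtension.ker :=
    P.span_range_relation_eq_ker
  have hcoef : ∀ s, (q : CotT.relMod P) s ∈ Ideal.span (Set.range (CotT.rel P)) := by
    intro s
    rw [hspan]
    have h1 := congrArg (fun y => TensorProduct.rid P.toExtension.Ring B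
      (LinearMap.lTensor B (Finsupp.lapply s) y)) hz
    simp only [LinearMap.lTensor_tmul, TensorProduct.rid_tmul, Finsupp.lapply_apply, map_zero] at h1
    show algebraMap P.toExtension.Ring B ((q : CotT.relMod P) s) = 0
    rwa [Algebra.smul_def, mul_one] at h1
  have hT : (q : CotT.relMod P) ∈ trivOf (CotT.jmap P) :=
    mem_trivOf_of_local (CotT.rel P) (by rw [hspan]; exact H) _ hcoef q.2
  have h0 : mk P (q : CotT.relMod P) = mk P ((0 : CotT.relKer P) : CotT.relMod P) := by
    rw [mk_eq_mk, Submodule.coe_zero, sub_zero]; exact hT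
  rw [cls_congr P h0, cls, TensorProduct.tmul_zero, Submodule.Quotient.mk_zero]

theorem subsingleton_T2 (M : Type m) [AddCommGroup M] [Module B M]
    (hinj : Function.Injective (CotT.d2 P)) [Module.Projective B P.toExtension.Cotangent] :
    Subsingleton (CotT.T2 P M) := by
  obtain ⟨s, hs⟩ := Module.projective_lifting_property (CotT.toCot P) LinearMap.id (toCot_surjective' P)
  let π : CotT.L1 P →ₗ[B] LinearMap.range (CotT.d2 P) :=
    (LinearMap.id - s ∘ₗ CotT.toCot P).codRestrict _ fun x => ker_toCot_le_range_d2 P (by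
      rw [LinearMap.mem_ker, LinearMap.sub_apply, map_sub, LinearMap.comp_apply,
        show CotT.toCot P (s (CotT.toCot P x)) = CotT.toCot P x from LinearMap.congr_fun hs _]
      exact sub_self _)
  refine ⟨fun a b => ?_⟩
  suffices ∀ a : CotT.T2 P M, a = 0 by rw [this a, this b]
  intro a
  obtain ⟨ξ, rfl⟩ := Submodule.Quotient.mk_surjective _ a
  refine (Submodule.Quotient.mk_eq_zero _).2
    ⟨ξ ∘ₗ (LinearEquiv.ofInjective _ hinj).symm.toLinearMap ∘ₗ π, LinearMap.ext fun z => ?_⟩
  rw [CotT.d2Star_apply]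
  show ξ ((LinearEquiv.ofInjective _ hinj).symm (π (CotT.d2 P z))) = ξ z
  congr 1
  rw [LinearEquiv.symm_apply_eq]
  refine Subtype.ext ?_
  show ((LinearMap.id : CotT.L1 P →ₗ[B] CotT.L1 P) - s ∘ₗ CotT.toCot P) (CotT.d2 P z) = _
  rw [LinearMap.sub_apply, LinearMap.comp_apply,
    show CotT.toCot P (CotT.d2 P z) = 0 from LinearMap.congr_fun (CotT.toCot_comp_d2 P) z, map_zero,
    sub_zero, LinearEquiv.ofInjective_apply]
  rfl

end T2

end Groth.Agent.CotLib
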